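import Mathlib

/-!
# Artin–Rees for tensoring a complex with powers of an ideal (helper71)

`mu I M : I ⊗ M → M` multiplication map; injective for flat `M`, range `I • ⊤`.
`exists_lift_of_artinRees` : element-level statement used for S14102.
-/

set_option autoImplicit false

namespace Groth.Agent.Lib.Helper71

open TensorProduct

universe u

section mu

variable {A : Type u} [CommRing A]

/-- multiplication map `I ⊗ M → M`. -/
noncomputable def mu (I : Ideal A) (M : Type u) [AddCommGroup M] [Module A M] : I ⊗[A] M →ₗ[A] M :=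
  (TensorProduct.lid A M).toLinearMap ∘ₗ LinearMap.rTensor M I.subtype

variable (I : Ideal A) {M N : Type u} [AddCommGroup M] [Module A M] [AddCommGroup N] [Module A N]

@[simp] lemma mu_tmul (a : I) (m : M) : mu I M (a ⊗ₜ m) = (a : A) • m := by
  simp [mu]

lemma mu_injective [Module.Flat A M] : Function.Injective (mu I M) := by
  unfold mu
  rw [LinearMap.coe_comp]
  exact (TensorProduct.lid A M).injective.comp
    (Module.Flat.rTensor_preserves_injective_linearMap _ Subtype.val_injective)

lemma range_mu : LinearMap.range (mu I M) = I • (⊤ : Submodule A M) := by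
  apply le_antisymm
  · rintro _ ⟨x, rfl⟩
    induction x using TensorProduct.induction_on with
    | zero => simp
    | tmul a m => rw [mu_tmul]; exact Submodule.smul_mem_smul a.2 Submodule.mem_top
    | add x y hx hy => rw [map_add]; exact Submodule.add_mem _ hx hy
  · rw [Submodule.smul_le]
    intro a ha m _
    exact ⟨(⟨a, ha⟩ : I) ⊗ₜ m, by simp⟩

lemma mu_lTensor (f : M →ₗ[A] N) (x : I ⊗[A] M) : mu I N (LinearMap.lTensor I f x) = f (mu I M x) := by
  induction x using TensorProduct.induction_on with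
  | zero => simp
  | tmul a m => simp
  | add x y hx hy => simp [hx, hy]

lemma mu_rTensor {I I' : Ideal A} (h : I ≤ I') (x : I ⊗[A] M) :
    mu I' M (LinearMap.rTensor M (Submodule.inclusion h) x) = mu I M x := by
  induction x using TensorProduct.induction_on with
  | zero => simp
  | tmul a m => simp
  | add x y hx hy => simp [hx, hy]

end mu

section main

variable {A : Type u} [CommRing A] [IsNoetherianRing A]
variable {M' M M'' : Type u} [AddCommGroup M'] [Module A M'] [AddCommGroup M] [Module A M]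
  [AddCommGroup M''] [Module A M'']

/-- Artin–Rees constant for `ker d ⊆ M`. -/
lemma exists_lift_of_artinRees [Module.Finite A M] [Module.Flat A M]
    (d' : M' →ₗ[A] M) (d : M →ₗ[A] M'') (J : Ideal A)
    (hJ : ∀ x ∈ J, ∀ z : M, d z = 0 → ∃ y : M', d' y = x • z) :
    ∃ k : ℕ, ∀ (e c : ℕ) (hc : k + 1 ≤ c) (x : (J ^ (c + e) : Ideal A) ⊗[A] M),
      LinearMap.lTensor (J ^ (c + e) : Ideal A) d x = 0 →
      ∃ w : (J ^ e : Ideal A) ⊗[A] M', LinearMap.lTensor (J ^ e : Ideal A) d' w =
        LinearMap.rTensor M (Submodule.inclusion (Ideal.pow_le_pow_right (Nat.le_add_left e c))) x := by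
  obtain ⟨k, hk⟩ := Ideal.exists_pow_inf_eq_pow_smul J (LinearMap.ker d)
  refine ⟨k, ?_⟩
  intro e c hc x hx
  set z := mu (J ^ (c + e)) M x with hz
  have hz1 : z ∈ (J ^ (c + e) : Ideal A) • (⊤ : Submodule A M) := by
    rw [← range_mu]; exact ⟨x, rfl⟩
  have hz2 : z ∈ LinearMap.ker d := by
    rw [LinearMap.mem_ker, hz, ← mu_lTensor, hx, map_zero]
  have hz3 : z ∈ (J ^ (c + e - k) : Ideal A) • ((J ^ k : Ideal A) • (⊤ : Submodule A M) ⊓ LinearMap.ker d) := by
    rw [← hk (c + e) (by omega)]
    exact ⟨hz1, hz2⟩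
  have hJker : J • LinearMap.ker d ≤ LinearMap.range d' := by
    rw [Submodule.smul_le]
    intro a ha m hm
    obtain ⟨y, hy⟩ := hJ a ha m hm
    exact ⟨y, hy⟩
  have hz4 : z ∈ (J ^ e : Ideal A) • LinearMap.range d' := by
    have h1 : (J ^ (c + e - k) : Ideal A) ≤ J ^ e * J := by
      rw [← pow_succ]
      exact Ideal.pow_le_pow_right (by omega)
    have h2 : (J ^ (c + e - k) : Ideal A) • ((J ^ k : Ideal A) • (⊤ : Submodule A M) ⊓ LinearMap.ker d)
        ≤ (J ^ e * J) • LinearMap.ker d :=
      Submodule.smul_mono h1 inf_le_right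
    have h3 : (J ^ e * J) • LinearMap.ker d ≤ (J ^ e : Ideal A) • LinearMap.range d' := by
      rw [Submodule.mul_smul]
      exact Submodule.smul_mono le_rfl hJker
    exact h3 (h2 hz3)
  have hz5 : z ∈ Submodule.map d' ((J ^ e : Ideal A) • (⊤ : Submodule A M')) := by
    rw [Submodule.map_smul'', Submodule.map_top]; exact hz4
  obtain ⟨y', hy', hy'z⟩ := hz5
  rw [← range_mu] at hy'
  obtain ⟨w, rfl⟩ := hy'
  refine ⟨w, ?_⟩
  apply mu_injective (J ^ e) (M := M)
  rw [mu_lTensor, hy'z, mu_rTensor]

end main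

end Groth.Agent.Lib.Helper71
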