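import Mathlib

/-!
# Eilenberg–Watts for module categories (helper71)

`F : ModuleCat A ⥤ ModuleCat B` additive, preserving finite colimits and coproducts.
`KK F = F(A)` with its `(A, B)`-bimodule structure, `eta F M : KK F ⊗[A] M ≃ₗ[B] F(M)`.
-/

universe u

namespace Groth.Agent.Lib.Helper71.EW

open CategoryTheory CategoryTheory.Limits TensorProduct

variable {A B : Type u} [CommRing A] [CommRing B]

/-- multiplication by `a` on `A` as a morphism -/
noncomputable def mulA (a : A) : ModuleCat.of A A ⟶ ModuleCat.of A A :=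
  ModuleCat.ofHom (a • LinearMap.id)

/-- `ρ_m : A ⟶ M`, `a ↦ a • m` -/
noncomputable def rho (M : ModuleCat.{u} A) (m : M) : ModuleCat.of A A ⟶ M :=
  ModuleCat.ofHom (LinearMap.toSpanSingleton A M m)

lemma rho_apply (M : ModuleCat.{u} A) (m : M) (a : A) : (rho M m).hom a = a • m := rfl

lemma rho_add (M : ModuleCat.{u} A) (m n : M) : rho M (m + n) = rho M m + rho M n := by
  apply ModuleCat.hom_ext; apply LinearMap.ext; intro a
  show a • (m + n) = a • m + a • n
  rw [smul_add]

lemma rho_zero (M : ModuleCat.{u} A) : rho M (0 : M) = 0 := by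
  apply ModuleCat.hom_ext; apply LinearMap.ext; intro a
  show a • (0 : M) = 0
  rw [smul_zero]

lemma mulA_comp_rho (M : ModuleCat.{u} A) (m : M) (a : A) : mulA a ≫ rho M m = rho M (a • m) := by
  apply ModuleCat.hom_ext; apply LinearMap.ext; intro c
  show (a • c) • m = c • (a • m)
  rw [smul_eq_mul, mul_comm, mul_smul]

lemma rho_comp {M N : ModuleCat.{u} A} (f : M ⟶ N) (m : M) : rho M m ≫ f = rho N (f.hom m) := by
  apply ModuleCat.hom_ext; apply LinearMap.ext; intro c
  show f.hom (c • m) = c • f.hom m
  rw [map_smul]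

lemma rho_self (a : A) : rho (ModuleCat.of A A) (a : A) = mulA a := by
  apply ModuleCat.hom_ext; apply LinearMap.ext; intro c
  show c • a = a • c
  rw [smul_eq_mul, smul_eq_mul, mul_comm]

lemma mulA_one : mulA (1 : A) = 𝟙 _ := by
  apply ModuleCat.hom_ext; apply LinearMap.ext; intro c
  show (1 : A) • c = c
  rw [one_smul]

lemma mulA_mul (a b : A) : mulA (a * b) = mulA b ≫ mulA a := by
  apply ModuleCat.hom_ext; apply LinearMap.ext; intro c
  show (a * b) • c = a • (b • c)
  rw [mul_smul]

lemma mulA_add (a b : A) : mulA (a + b) = mulA a + mulA b := by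
  apply ModuleCat.hom_ext; apply LinearMap.ext; intro c
  show (a + b) • c = a • c + b • c
  rw [add_smul]

lemma mulA_zero : mulA (0 : A) = 0 := by
  apply ModuleCat.hom_ext; apply LinearMap.ext; intro c
  show (0 : A) • c = 0
  rw [zero_smul]

lemma mulA_eq_smul (a : A) : mulA a = a • 𝟙 (ModuleCat.of A A) := rfl

variable (F : ModuleCat.{u} A ⥤ ModuleCat.{u} B)

/-- The bimodule `F(A)`. -/
def KK : Type u := F.obj (ModuleCat.of A A)

noncomputable instance : AddCommGroup (KK F) := inferInstanceAs (AddCommGroup (F.obj (ModuleCat.of A A)))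
noncomputable instance : Module B (KK F) := inferInstanceAs (Module B (F.obj (ModuleCat.of A A)))

variable [F.Additive]

/-- the ring hom `A → End_B(F(A))` -/
noncomputable def actHom : A →+* Module.End B (KK F) where
  toFun a := (F.map (mulA a)).hom
  map_one' := by rw [mulA_one, F.map_id]; rfl
  map_mul' a b := by rw [mulA_mul, F.map_comp]; rfl
  map_zero' := by rw [mulA_zero, F.map_zero]; rfl
  map_add' a b := by rw [mulA_add, F.map_add]; rfl

noncomputable instance : Module A (KK F) := Module.compHom (KK F) (actHom F)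

lemma smul_def (a : A) (x : KK F) : a • x = (F.map (mulA a)).hom x := rfl

instance : SMulCommClass A B (KK F) where
  smul_comm a b x := by
    rw [smul_def, smul_def]
    exact map_smul (F.map (mulA a)).hom b x

/-- the additive bilinear map -/
noncomputable def etaAdd (M : ModuleCat.{u} A) : KK F →+ M →+ F.obj M where
  toFun x :=
    { toFun := fun m => (F.map (rho M m)).hom x
      map_zero' := by rw [rho_zero, F.map_zero]; rfl
      map_add' := fun m n => by rw [rho_add, F.map_add]; rfl }
  map_zero' := by
    ext m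
    exact map_zero (F.map (rho M m)).hom
  map_add' x y := by
    ext m
    exact map_add (F.map (rho M m)).hom x y

noncomputable def etaAddHom (M : ModuleCat.{u} A) : KK F ⊗[A] M →+ F.obj M :=
  TensorProduct.liftAddHom (etaAdd F M) (by
    intro a x m
    show (F.map (rho M m)).hom ((F.map (mulA a)).hom x) = (F.map (rho M (a • m))).hom x
    rw [← mulA_comp_rho, F.map_comp]; rfl)

lemma etaAddHom_tmul (M : ModuleCat.{u} A) (x : KK F) (m : M) :
    etaAddHom F M (x ⊗ₜ m) = (F.map (rho M m)).hom x := rfl

/-- `η_M : F(A) ⊗_A M → F(M)` -/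
noncomputable def eta (M : ModuleCat.{u} A) : KK F ⊗[A] M →ₗ[B] F.obj M where
  toFun := etaAddHom F M
  map_add' := map_add _
  map_smul' b z := by
    induction z using TensorProduct.induction_on with
    | zero => simp
    | add x y hx hy => rw [smul_add, map_add, hx, hy, map_add, smul_add]
    | tmul x m =>
      rw [TensorProduct.smul_tmul', etaAddHom_tmul, etaAddHom_tmul]
      exact map_smul (F.map (rho M m)).hom b x

lemma eta_tmul (M : ModuleCat.{u} A) (x : KK F) (m : M) :
    eta F M (x ⊗ₜ m) = (F.map (rho M m)).hom x := rfl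

lemma eta_natural {M N : ModuleCat.{u} A} (f : M ⟶ N) (z : KK F ⊗[A] M) :
    eta F N (LinearMap.lTensor (KK F) f.hom z) = (F.map f).hom (eta F M z) := by
  induction z using TensorProduct.induction_on with
  | zero => simp
  | add x y hx hy => rw [map_add, map_add, hx, hy, map_add, map_add]
  | tmul x m =>
    rw [LinearMap.lTensor_tmul, eta_tmul, eta_tmul, ← rho_comp, F.map_comp]; rfl

/-- `η_A` is injective. -/
lemma eta_self_injective : Function.Injective (eta F (ModuleCat.of A A)) := by
  have h : ∀ z : KK F ⊗[A] (ModuleCat.of A A : ModuleCat.{u} A),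
      eta F (ModuleCat.of A A) z = TensorProduct.rid A (KK F) z := by
    intro z
    induction z using TensorProduct.induction_on with
    | zero => rw [map_zero, map_zero]; rfl
    | add x y hx hy => rw [map_add, hx, hy, map_add]; rfl
    | tmul x a =>
      rw [eta_tmul, rho_self]
      show (F.map (mulA a)).hom x = a • x
      rfl
  intro z w hzw
  rw [h, h] at hzw
  exact (TensorProduct.rid A (KK F)).injective hzw

/-- `η` is injective on free modules `J →₀ A`. -/
lemma eta_free_injective (J : Type u) :
    Function.Injective (eta F (ModuleCat.of A (J →₀ A))) := by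
  classical
  rw [injective_iff_map_eq_zero]
  intro z hz
  have h1 : ∀ j : J, LinearMap.lTensor (KK F) (Finsupp.lapply (R := A) (M := A) j) z = 0 := by
    intro j
    apply eta_self_injective F
    have := eta_natural F (ModuleCat.ofHom (Finsupp.lapply (R := A) (M := A) j)) z
    rw [hz, map_zero] at this
    rw [map_zero]
    exact this
  apply (TensorProduct.finsuppRight A A (KK F) A J).injective
  rw [map_zero]
  ext j : 1
  rw [TensorProduct.finsuppRight_apply]
  exact h1 j


section Coproducts

/-- the free module on `J` -/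
noncomputable abbrev PJ (A : Type u) [CommRing A] (J : Type u) : ModuleCat.{u} A :=
  ModuleCat.of A (J →₀ A)

noncomputable def inJ (J : Type u) (j : J) : ModuleCat.of A A ⟶ PJ A J :=
  ModuleCat.ofHom (Finsupp.lsingle j)

/-- the cofan exhibiting `J →₀ A` as a coproduct of copies of `A` -/
noncomputable def cofanJ (A : Type u) [CommRing A] (J : Type u) :
    Cofan (fun _ : J => (ModuleCat.of A A : ModuleCat.{u} A)) :=
  Cofan.mk (PJ A J) (fun j => inJ J j)

noncomputable def cofanJ_isColimit (J : Type u) : IsColimit (cofanJ A J) :=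
  Cofan.IsColimit.mk _
    (fun t => ModuleCat.ofHom (Finsupp.lsum A (fun j => (t.inj j).hom)))
    (fun t j => by
      apply ModuleCat.hom_ext
      apply LinearMap.ext
      intro a
      show Finsupp.lsum A (fun j => (t.inj j).hom) (Finsupp.single j a) = (t.inj j).hom a
      simp)
    (fun t m hm => by
      apply ModuleCat.hom_ext
      apply Finsupp.lhom_ext'
      intro j
      apply LinearMap.ext
      intro a
      have := congrArg (fun f => f.hom a) (hm j)
      show m.hom (Finsupp.single j a) = Finsupp.lsum A (fun j => (t.inj j).hom) (Finsupp.single j a)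
      simp only [Finsupp.lsum_single]
      exact this)

variable (hsum : ∀ J : Type u, PreservesColimitsOfShape (Discrete J) F)
include hsum

omit [F.Additive] in
/-- the images of `F(ι_j)` span `F(J →₀ A)` -/
lemma iSup_range_eq_top (J : Type u) :
    (⨆ j : J, LinearMap.range (F.map (inJ (A := A) J j)).hom) = ⊤ := by
  have := hsum J
  have hc : IsColimit (F.mapCocone (cofanJ A J)) := isColimitOfPreserves F (cofanJ_isColimit J)
  set S := ⨆ j : J, LinearMap.range (F.map (inJ (A := A) J j)).hom with hS
  let q : F.obj (PJ A J) ⟶ ModuleCat.of B (F.obj (PJ A J) ⧸ S) := ModuleCat.ofHom S.mkQ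
  have hq : q = 0 := by
    apply hc.hom_ext
    rintro ⟨j⟩
    apply ModuleCat.hom_ext
    apply LinearMap.ext
    intro x
    show S.mkQ ((F.map (inJ J j)).hom x) = 0
    rw [Submodule.mkQ_apply, Submodule.Quotient.mk_eq_zero]
    exact Submodule.mem_iSup_of_mem j (LinearMap.mem_range_self _ x)
  have h2 : S.mkQ = 0 := congrArg ModuleCat.Hom.hom hq
  rw [← Submodule.ker_mkQ S, h2, LinearMap.ker_zero]

variable [PreservesFiniteColimits F]

/-- the canonical surjection from the free module on the underlying set -/
noncomputable def piM (M : ModuleCat.{u} A) : PJ A M ⟶ M :=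
  ModuleCat.ofHom (Finsupp.linearCombination A (id : M → M))

omit hsum [F.Additive] [PreservesFiniteColimits F] in
lemma inJ_piM (M : ModuleCat.{u} A) (m : M) : inJ M m ≫ piM M = rho M m := by
  apply ModuleCat.hom_ext
  apply LinearMap.ext
  intro a
  show Finsupp.linearCombination A (id : M → M) (Finsupp.single m a) = a • m
  simp

omit hsum [F.Additive] [PreservesFiniteColimits F] in
lemma piM_surjective (M : ModuleCat.{u} A) : Function.Surjective (piM M).hom := by
  intro m
  refine ⟨Finsupp.single m 1, ?_⟩
  show Finsupp.linearCombination A (id : M → M) (Finsupp.single m 1) = m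
  simp

lemma eta_surjective (M : ModuleCat.{u} A) : Function.Surjective (eta F M) := by
  intro y
  have hepi : Epi (piM M) := (ModuleCat.epi_iff_surjective _).2 (piM_surjective M)
  have hepi' : Epi (F.map (piM M)) := inferInstance
  obtain ⟨w, rfl⟩ := (ModuleCat.epi_iff_surjective _).1 hepi' y
  have hw : w ∈ (⨆ j : M, LinearMap.range (F.map (inJ (A := A) M j)).hom) := by
    rw [iSup_range_eq_top F hsum]; trivial
  induction hw using Submodule.iSup_induction' with
  | mem j x hx =>
    obtain ⟨x', rfl⟩ := hx
    have key : ∀ x'' : KK F, eta F M (x'' ⊗ₜ[A] j) =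
        (F.map (piM M)).hom ((F.map (inJ M j)).hom x'') := by
      intro x''
      rw [eta_tmul, ← inJ_piM, F.map_comp]; rfl
    exact ⟨_, key x'⟩
  | zero => exact ⟨0, by rw [map_zero, map_zero]⟩
  | add x y hx hy hx' hy' =>
    obtain ⟨a, ha⟩ := hx'
    obtain ⟨b, hb⟩ := hy'
    exact ⟨a + b, by rw [map_add, ha, hb, map_add]⟩

lemma eta_injective (M : ModuleCat.{u} A) : Function.Injective (eta F M) := by
  rw [injective_iff_map_eq_zero]
  intro z hz
  -- presentation
  let N : Submodule A (M →₀ A) := LinearMap.ker (piM M).hom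
  let g : PJ A N ⟶ PJ A M :=
    ModuleCat.ofHom (Finsupp.linearCombination A (Subtype.val : N → (M →₀ A)))
  have hg : g ≫ piM M = 0 := by
    apply ModuleCat.hom_ext
    apply Finsupp.lhom_ext'
    intro n
    apply LinearMap.ext
    intro a
    show (piM M).hom (Finsupp.linearCombination A (Subtype.val : N → (M →₀ A))
      (Finsupp.single n a)) = 0
    rw [Finsupp.linearCombination_single, map_smul]
    have : (piM M).hom n.1 = 0 := n.2
    rw [this, smul_zero]
  let S : ShortComplex (ModuleCat.{u} A) := ShortComplex.mk g (piM M) hg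
  have hS : S.Exact := by
    rw [ShortComplex.moduleCat_exact_iff]
    intro x₂ hx₂
    refine ⟨Finsupp.single (⟨x₂, hx₂⟩ : N) 1, ?_⟩
    show Finsupp.linearCombination A (Subtype.val : N → (M →₀ A))
      (Finsupp.single (⟨x₂, hx₂⟩ : N) 1) = x₂
    simp
  have hepi : Epi S.g := (ModuleCat.epi_iff_surjective _).2 (piM_surjective M)
  have htfae : PreservesFiniteColimits F →
      ∀ (S : ShortComplex (ModuleCat.{u} A)), S.Exact ∧ Epi S.g →
        (S.map F).Exact ∧ Epi (F.map S.g) :=
    ((Functor.preservesFiniteColimits_tfae F).out 3 1).1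
  have hFS : (S.map F).Exact := (htfae ‹_› S ⟨hS, hepi⟩).1
  rw [ShortComplex.moduleCat_exact_iff] at hFS
  obtain ⟨z', rfl⟩ := LinearMap.lTensor_surjective (KK F) (piM_surjective M) z
  rw [eta_natural] at hz
  obtain ⟨y₁, hy₁⟩ := hFS (eta F (PJ A M) z') hz
  obtain ⟨w', rfl⟩ := eta_surjective F hsum (PJ A N) y₁
  have h3 : eta F (PJ A M) (LinearMap.lTensor (KK F) g.hom w') = eta F (PJ A M) z' := by
    rw [eta_natural]; exact hy₁
  have h4 := eta_free_injective F M h3
  rw [← h4, ← LinearMap.comp_apply, ← LinearMap.lTensor_comp]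
  have h5 : (piM M).hom ∘ₗ g.hom = 0 := congrArg ModuleCat.Hom.hom hg
  rw [h5, LinearMap.lTensor_zero, LinearMap.zero_apply]

/-- **Eilenberg–Watts**: `F(A) ⊗_A M ≃ F(M)`. -/
noncomputable def etaEquiv (M : ModuleCat.{u} A) : KK F ⊗[A] M ≃ₗ[B] F.obj M :=
  LinearEquiv.ofBijective (eta F M) ⟨eta_injective F hsum M, eta_surjective F hsum M⟩

lemma etaEquiv_apply (M : ModuleCat.{u} A) (z : KK F ⊗[A] M) :
    etaEquiv F hsum M z = eta F M z := rfl

end Coproducts

end Groth.Agent.Lib.Helper71.EW
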