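import Mathlib.RingTheory.Flat.Equalizer
import Mathlib.RingTheory.Flat.Stability
import Mathlib.LinearAlgebra.TensorProduct.Prod
import Mathlib.Tactic

/-! Helper lemmas on flat modules (helper71). -/

set_option autoImplicit false
universe u

namespace Groth.Agent.Lib.Helper71

open TensorProduct

/-- A product of two flat modules is flat. -/
theorem flat_prod (R M N : Type u) [CommRing R] [AddCommGroup M] [AddCommGroup N]
    [Module R M] [Module R N] [Module.Flat R M] [Module.Flat R N] : Module.Flat R (M × N) := by
  rw [Module.Flat.iff_rTensor_preserves_injective_linearMap]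
  intro P P' _ _ _ _ f hf
  have h1 := Module.Flat.rTensor_preserves_injective_linearMap (M := M) f hf
  have h2 := Module.Flat.rTensor_preserves_injective_linearMap (M := N) f hf
  have hcomm : ∀ z : P ⊗[R] (M × N),
      TensorProduct.prodRight R R P' M N (f.rTensor (M × N) z) =
        ((f.rTensor M) (TensorProduct.prodRight R R P M N z).1,
         (f.rTensor N) (TensorProduct.prodRight R R P M N z).2) := by
    intro z
    induction z using TensorProduct.induction_on with
    | zero => simp only [map_zero, Prod.fst_zero, Prod.snd_zero]; rfl
    | tmul p x => simp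
    | add x y hx hy => simp only [map_add, hx, hy, Prod.fst_add, Prod.snd_add, Prod.mk_add_mk]
  intro z z' hzz
  have := congrArg (TensorProduct.prodRight R R P' M N) hzz
  rw [hcomm, hcomm, Prod.mk.injEq] at this
  apply (TensorProduct.prodRight R R P M N).injective
  exact Prod.ext (h1 this.1) (h2 this.2)

/-- In a short exact sequence `0 → P → F → Q → 0` with `F` and `Q` flat, `P` is flat. -/
theorem flat_of_exact {R P F Q : Type u} [CommRing R] [AddCommGroup P] [AddCommGroup F]
    [AddCommGroup Q] [Module R P] [Module R F] [Module R Q] [Module.Flat R F] [Module.Flat R Q]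
    (g : P →ₗ[R] F) (f : F →ₗ[R] Q) (hg : Function.Injective g) (hf : Function.Surjective f)
    (hex : Function.Exact g f) : Module.Flat R P := by
  rw [Module.Flat.iff_rTensor_preserves_injective_linearMap]
  intro N N' _ _ _ _ φ hφ
  have h1 : Function.Injective (g.lTensor N) :=
    LinearMap.lTensor_injective_of_exact_of_flat f hf g hg hex N
  have h2 : Function.Injective (φ.rTensor F) :=
    Module.Flat.rTensor_preserves_injective_linearMap φ hφ
  have h3 : (g.lTensor N') ∘ₗ (φ.rTensor P) = (φ.rTensor F) ∘ₗ (g.lTensor N) := by
    rw [LinearMap.lTensor_comp_rTensor, LinearMap.rTensor_comp_lTensor]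
  have h4 : Function.Injective ((g.lTensor N') ∘ₗ (φ.rTensor P)) := by
    rw [h3]; exact h2.comp h1
  exact Function.Injective.of_comp h4

end Groth.Agent.Lib.Helper71
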