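/-
helper71: representation theory of (k-points of) non-degenerate theta groups
`1 → kˣ → Γ → K → 1` (finite Heisenberg groups): weight-one representations.
Builds on the commutator pairing `e₀` of `Groth.Agent.S17512`.
-/
import Groth.Agent.S17512

set_option autoImplicit false
universe u

namespace Groth.Agent.Lib.Helper71.Heisenberg

open Groth.Agent.S17512
open scoped commutatorElement MonoidAlgebra

section Basic

variable {k : Type u} [Field k] {Γ : Type u} [Group Γ] (ι : kˣ →* Γ) (hι : Function.Injective ι)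
  (hcent : ι.range = Subgroup.center Γ) (hcomm : commutator Γ ≤ ι.range)
variable {V : Type*} [AddCommGroup V] [Module k V] (ρ : Representation k Γ V)
  (hw : ∀ (z : kˣ) (v : V), ρ (ι z) v = (z : k) • v)

include hw in
lemma rho_ι (z : kˣ) : ρ (ι z) = (z : k) • (1 : Module.End k V) := by
  ext v; simp [hw z v]

include hw in
lemma rho_comm (g h : Γ) :
    ρ g * ρ h = ((e₀ ι hι hcomm g h : kˣ) : k) • (ρ h * ρ g) := by
  have h1 : g * h = ⁅g, h⁆ * (h * g) := by
    rw [commutatorElement_def]; group
  rw [← map_mul, h1, map_mul, ← ι_e₀ ι hι hcomm, rho_ι ι ρ hw, map_mul, smul_mul_assoc, one_mul]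

include hw in
lemma rho_conj (g h : Γ) :
    ρ h * ρ g * ρ h⁻¹ = ((e₀ ι hι hcomm h g : kˣ) : k) • ρ g := by
  rw [rho_comm ι hι hcomm ρ hw h g, smul_mul_assoc, mul_assoc, ← map_mul, mul_inv_cancel, map_one,
    mul_one]

include hcent in
lemma e₀_inv_right (x y : Γ) : e₀ ι hι hcomm x y⁻¹ = (e₀ ι hι hcomm x y)⁻¹ := by
  have h := e₀_mul_right ι hι hcent hcomm x y y⁻¹
  have h1 : e₀ ι hι hcomm x (y * y⁻¹) = 1 := by
    rw [mul_inv_cancel, e₀_eq_one_iff, mul_one, one_mul]
  rw [h1] at h
  exact eq_inv_of_mul_eq_one_right h.symm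

include hcent in
/-- non-degeneracy: elements in different cosets are separated by the pairing -/
lemma exists_e₀_ne {a b : Γ} (hab : (QuotientGroup.mk a : Γ ⧸ ι.range) ≠ QuotientGroup.mk b) :
    ∃ h : Γ, e₀ ι hι hcomm h a ≠ e₀ ι hι hcomm h b := by
  by_contra hcon
  push Not at hcon
  apply hab
  rw [QuotientGroup.eq, hcent, Subgroup.mem_center_iff]
  intro h
  have h1 : e₀ ι hι hcomm h (a⁻¹ * b) = 1 := by
    rw [e₀_mul_right ι hι hcent hcomm, e₀_inv_right ι hι hcent hcomm, hcon h, inv_mul_cancel]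
  exact ((e₀_eq_one_iff ι hι hcomm _ _).1 h1)

include hι hcomm hw hcent in
/-- The operators `ρ (s x)`, `x ∈ K = Γ/kˣ`, of a nonzero weight-one representation are linearly
independent. -/
theorem linearIndependent_section [Nontrivial V] (s : Γ ⧸ ι.range → Γ)
    (hs : ∀ x, (QuotientGroup.mk (s x) : Γ ⧸ ι.range) = x) :
    LinearIndependent k (fun x : Γ ⧸ ι.range => ρ (s x)) := by
  classical
  rw [linearIndependent_iff']
  intro t
  induction t using Finset.induction_on with
  | empty => intro c _ x hx; simp at hx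
  | insert x₀ t hx₀ ih =>
    intro c hsum x hx
    -- conjugated relation
    have hconj : ∀ h : Γ, ∑ x ∈ insert x₀ t,
        (c x * ((e₀ ι hι hcomm h (s x) : kˣ) : k)) • ρ (s x) = 0 := by
      intro h
      have := congrArg (fun T => ρ h * T * ρ h⁻¹) hsum
      simp only [Finset.mul_sum, Finset.sum_mul, mul_zero, zero_mul, mul_smul_comm,
        smul_mul_assoc] at this
      rw [← this]
      refine Finset.sum_congr rfl fun x _ => ?_
      rw [rho_conj ι hι hcomm ρ hw, smul_smul]
    have hred : ∀ h : Γ, ∀ x ∈ t,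
        c x * (((e₀ ι hι hcomm h (s x) : kˣ) : k) - ((e₀ ι hι hcomm h (s x₀) : kˣ) : k)) = 0 := by
      intro h
      apply ih
      have h1 := hconj h
      have h2 := congrArg (fun T => ((e₀ ι hι hcomm h (s x₀) : kˣ) : k) • T) hsum
      simp only [Finset.smul_sum, smul_zero, smul_smul] at h2
      rw [Finset.sum_insert hx₀] at h1 h2
      have h3 : ∑ x ∈ t, (c x * (((e₀ ι hι hcomm h (s x) : kˣ) : k) -
          ((e₀ ι hι hcomm h (s x₀) : kˣ) : k))) • ρ (s x) =
          ∑ x ∈ t, (c x * ((e₀ ι hι hcomm h (s x) : kˣ) : k)) • ρ (s x) -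
          ∑ x ∈ t, (((e₀ ι hι hcomm h (s x₀) : kˣ) : k) * c x) • ρ (s x) := by
        rw [← Finset.sum_sub_distrib]
        refine Finset.sum_congr rfl fun x _ => ?_
        rw [← sub_smul]; congr 1; ring
      rw [h3]
      have h4 : ∑ x ∈ t, (c x * ((e₀ ι hι hcomm h (s x) : kˣ) : k)) • ρ (s x) =
          -((c x₀ * ((e₀ ι hι hcomm h (s x₀) : kˣ) : k)) • ρ (s x₀)) := by
        rw [eq_neg_iff_add_eq_zero, add_comm]; exact h1
      have h5 : ∑ x ∈ t, (((e₀ ι hι hcomm h (s x₀) : kˣ) : k) * c x) • ρ (s x) =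
          -((((e₀ ι hι hcomm h (s x₀) : kˣ) : k) * c x₀) • ρ (s x₀)) := by
        rw [eq_neg_iff_add_eq_zero, add_comm]; exact h2
      rw [h4, h5, mul_comm]
      simp
    have hct : ∀ x ∈ t, c x = 0 := by
      intro x hxt
      have hne : x ≠ x₀ := fun h => hx₀ (h ▸ hxt)
      have hne' : (QuotientGroup.mk (s x) : Γ ⧸ ι.range) ≠ QuotientGroup.mk (s x₀) := by
        rw [hs, hs]; exact hne
      obtain ⟨h, hh⟩ := exists_e₀_ne ι hι hcent hcomm hne'
      have := hred h x hxt
      rcases mul_eq_zero.1 this with h0 | h0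
      · exact h0
      · exfalso
        apply hh
        exact Units.ext (sub_eq_zero.1 h0)
    rcases Finset.mem_insert.1 hx with rfl | hxt
    · rw [Finset.sum_insert hx₀, Finset.sum_eq_zero (fun y hy => by rw [hct y hy, zero_smul]),
        add_zero] at hsum
      rcases smul_eq_zero.1 hsum with h0 | h0
      · exact h0
      · exfalso
        have hunit : IsUnit (ρ (s x)) := by
          refine ⟨⟨ρ (s x), ρ (s x)⁻¹, ?_, ?_⟩, rfl⟩
          · rw [← map_mul, mul_inv_cancel, map_one]
          · rw [← map_mul, inv_mul_cancel, map_one]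
        exact hunit.ne_zero h0
    · exact hct x hxt

end Basic

section Avg

variable {k : Type u} [Field k] {Γ : Type u} [Group Γ] (ι : kˣ →* Γ) (hι : Function.Injective ι)
  (hcent : ι.range = Subgroup.center Γ) (hcomm : commutator Γ ≤ ι.range)
variable {V : Type*} [AddCommGroup V] [Module k V] (ρ : Representation k Γ V)
  (hw : ∀ (z : kˣ) (v : V), ρ (ι z) v = (z : k) • v)
variable {W : Type*} [AddCommGroup W] [Module k W] (σ : Representation k Γ W)
  (hσ : ∀ (z : kˣ) (v : W), σ (ι z) v = (z : k) • v)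

/-- conjugation of a linear map by a group element -/
def conjOp (g : Γ) (T : V →ₗ[k] W) : V →ₗ[k] W := σ g ∘ₗ T ∘ₗ ρ g⁻¹

lemma conjOp_apply (g : Γ) (T : V →ₗ[k] W) (v : V) :
    conjOp ρ σ g T v = σ g (T (ρ g⁻¹ v)) := rfl

include hw hσ in
lemma conjOp_ι_mul (z : kˣ) (g : Γ) (T : V →ₗ[k] W) :
    conjOp ρ σ (ι z * g) T = conjOp ρ σ g T := by
  ext v
  simp only [conjOp_apply, mul_inv_rev, map_mul, Module.End.mul_apply, ← map_inv, hw, hσ,
    map_smul, smul_smul]
  simp

include hw hσ hcent in
lemma conjOp_eq_of_mk_eq {a b : Γ} (hab : (QuotientGroup.mk a : Γ ⧸ ι.range) = QuotientGroup.mk b)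
    (T : V →ₗ[k] W) : conjOp ρ σ a T = conjOp ρ σ b T := by
  rw [QuotientGroup.eq] at hab
  obtain ⟨z, hz⟩ := hab
  have : b = ι z * a := by
    rw [hz, ← central ι hcent ⟨z, hz⟩ a, mul_inv_cancel_left]
  rw [this, conjOp_ι_mul ι ρ hw σ hσ]

lemma conjOp_mul (g a : Γ) (T : V →ₗ[k] W) :
    σ g ∘ₗ conjOp ρ σ a T ∘ₗ ρ g⁻¹ = conjOp ρ σ (g * a) T := by
  ext v
  simp [conjOp_apply, mul_inv_rev, map_mul]

variable [ι.range.Normal] [Fintype (Γ ⧸ ι.range)]

/-- the averaged operator `Σ_x σ(s x) T ρ(s x)⁻¹` -/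
def avg (s : Γ ⧸ ι.range → Γ) (T : V →ₗ[k] W) : V →ₗ[k] W :=
  ∑ x : Γ ⧸ ι.range, conjOp ρ σ (s x) T

include hw hσ hcent in
lemma avg_conj (s : Γ ⧸ ι.range → Γ)
    (hs : ∀ x, (QuotientGroup.mk (s x) : Γ ⧸ ι.range) = x) (T : V →ₗ[k] W) (g : Γ) :
    σ g ∘ₗ avg ι ρ σ s T ∘ₗ ρ g⁻¹ = avg ι ρ σ s T := by
  have h0 : σ g ∘ₗ avg ι ρ σ s T ∘ₗ ρ g⁻¹ = ∑ x : Γ ⧸ ι.range, conjOp ρ σ (g * s x) T := by
    ext v
    simp only [avg, LinearMap.comp_apply, LinearMap.sum_apply, map_sum, ← conjOp_mul]
  rw [h0]
  unfold avg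
  have : ∀ x : Γ ⧸ ι.range, conjOp ρ σ (g * s x) T =
      conjOp ρ σ (s (Equiv.mulLeft (QuotientGroup.mk g : Γ ⧸ ι.range) x)) T := by
    intro x
    apply conjOp_eq_of_mk_eq ι hcent ρ hw σ hσ
    rw [hs, QuotientGroup.mk_mul, hs]; rfl
  simp only [this]
  exact Equiv.sum_comp (Equiv.mulLeft (QuotientGroup.mk g : Γ ⧸ ι.range))
    (fun x => conjOp ρ σ (s x) T)

include hw hσ hcent in
lemma avg_comm (s : Γ ⧸ ι.range → Γ)
    (hs : ∀ x, (QuotientGroup.mk (s x) : Γ ⧸ ι.range) = x) (T : V →ₗ[k] W) (g : Γ) :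
    avg ι ρ σ s T ∘ₗ ρ g = σ g ∘ₗ avg ι ρ σ s T := by
  conv_lhs => rw [← avg_conj ι hcent ρ hw σ hσ s hs T g]
  ext v
  simp [← Module.End.mul_apply, ← map_mul]

/-- the averaged operator as an intertwining map -/
def avgI (s : Γ ⧸ ι.range → Γ)
    (hs : ∀ x, (QuotientGroup.mk (s x) : Γ ⧸ ι.range) = x) (T : V →ₗ[k] W) :
    Representation.IntertwiningMap ρ σ :=
  ⟨avg ι ρ σ s T, avg_comm ι hcent ρ hw σ hσ s hs T⟩

include hι hcomm hw hσ hcent in
theorem exists_avg_ne_zero [Nontrivial V] [Nontrivial W] (s : Γ ⧸ ι.range → Γ)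
    (hs : ∀ x, (QuotientGroup.mk (s x) : Γ ⧸ ι.range) = x) :
    ∃ T : V →ₗ[k] W, avg ι ρ σ s T ≠ 0 := by
  by_contra hcon
  push Not at hcon
  obtain ⟨u, hu⟩ := exists_ne (0 : V)
  have hli := linearIndependent_section ι hι hcent hcomm σ hσ s hs
  rw [Fintype.linearIndependent_iff] at hli
  have key : ∀ f : Module.Dual k V, ∀ x : Γ ⧸ ι.range, f (ρ (s x)⁻¹ u) = 0 := by
    intro f
    apply hli
    ext w
    have := LinearMap.congr_fun (hcon (f.smulRight w)) u
    simp only [avg, LinearMap.sum_apply, conjOp_apply, LinearMap.smulRight_apply, map_smul,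
      LinearMap.zero_apply] at this
    simpa [LinearMap.sum_apply] using this
  have h1 : ρ (s 1)⁻¹ u = 0 := (Module.forall_dual_apply_eq_zero_iff k _).1 fun f => key f 1
  apply hu
  have := congrArg (ρ (s 1)) h1
  rwa [← Module.End.mul_apply, ← map_mul, mul_inv_cancel, map_one, Module.End.one_apply,
    map_zero] at this

lemma nontrivial_of_isIrreducible [Representation.IsIrreducible ρ] : Nontrivial V := by
  by_contra h
  rw [not_nontrivial_iff_subsingleton] at h
  have : (⊥ : Subrepresentation ρ) = ⊤ := by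
    apply Subrepresentation.toSubmodule_injective
    exact Subsingleton.elim _ _
  exact bot_ne_top this

include hι hcomm hw hσ hcent in
theorem nonempty_equiv_of_isIrreducible [Representation.IsIrreducible ρ]
    [Representation.IsIrreducible σ] : Nonempty (Representation.Equiv ρ σ) := by
  haveI := nontrivial_of_isIrreducible ρ
  haveI := nontrivial_of_isIrreducible σ
  let s : Γ ⧸ ι.range → Γ := fun x => Quotient.out x
  have hs : ∀ x, (QuotientGroup.mk (s x) : Γ ⧸ ι.range) = x := fun x => QuotientGroup.out_eq' x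
  obtain ⟨T, hT⟩ := exists_avg_ne_zero ι hι hcent hcomm ρ hw σ hσ s hs
  let F := avgI ι hcent ρ hw σ hσ s hs T
  rcases Representation.IsIrreducible.bijective_or_eq_zero F with hb | h0
  · exact ⟨Representation.IntertwiningMap.ofBijective F hb⟩
  · exfalso
    apply hT
    have := congrArg Representation.IntertwiningMap.toLinearMap h0
    exact this

end Avg

section Dim

variable {k : Type u} [Field k] [IsAlgClosed k] {Γ : Type u} [Group Γ] (ι : kˣ →* Γ)
  (hι : Function.Injective ι)
  (hcent : ι.range = Subgroup.center Γ) (hcomm : commutator Γ ≤ ι.range)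
variable {V : Type*} [AddCommGroup V] [Module k V] [FiniteDimensional k V]
  (ρ : Representation k Γ V)
  (hw : ∀ (z : kˣ) (v : V), ρ (ι z) v = (z : k) • v)
variable [ι.range.Normal] [Fintype (Γ ⧸ ι.range)]

lemma trace_conjOp (g : Γ) (T : V →ₗ[k] V) :
    LinearMap.trace k V (conjOp ρ ρ g T) = LinearMap.trace k V T := by
  have : conjOp ρ ρ g T = ρ g * (T * ρ g⁻¹) := rfl
  rw [this, LinearMap.trace_mul_comm, mul_assoc, ← map_mul, inv_mul_cancel, map_one, mul_one]

lemma trace_avg (s : Γ ⧸ ι.range → Γ) (T : V →ₗ[k] V) :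
    LinearMap.trace k V (avg ι ρ ρ s T) =
      (Fintype.card (Γ ⧸ ι.range) : k) * LinearMap.trace k V T := by
  simp [avg, map_sum, trace_conjOp]

include hw hcent in
/-- Schur: the averaged operator is a scalar, determined by the trace. -/
lemma avg_eq_smul [Representation.IsIrreducible ρ] (s : Γ ⧸ ι.range → Γ)
    (hs : ∀ x, (QuotientGroup.mk (s x) : Γ ⧸ ι.range) = x) (T : V →ₗ[k] V) :
    ∃ c : k, avg ι ρ ρ s T = c • LinearMap.id ∧
      c * (Module.finrank k V : k) = (Fintype.card (Γ ⧸ ι.range) : k) * LinearMap.trace k V T := by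
  obtain ⟨c, hc⟩ := (Representation.IsIrreducible.algebraMap_intertwiningMap_bijective_of_isAlgClosed
    (ρ := ρ)).2 (avgI ι hcent ρ hw ρ hw s hs T)
  have h1 : avg ι ρ ρ s T = c • LinearMap.id := by
    have := congrArg Representation.IntertwiningMap.toLinearMap hc
    exact this.symm
  refine ⟨c, h1, ?_⟩
  rw [← trace_avg ι ρ s T, h1, map_smul, LinearMap.trace_id, smul_eq_mul]

include hι hcomm hw hcent in
/-- the operators `ρ (s x)` span `End V` for an irreducible weight-one representation -/
theorem span_section_eq_top [Representation.IsIrreducible ρ]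
    (hK : (Fintype.card (Γ ⧸ ι.range) : k) ≠ 0) (s : Γ ⧸ ι.range → Γ)
    (hs : ∀ x, (QuotientGroup.mk (s x) : Γ ⧸ ι.range) = x) :
    Submodule.span k (Set.range fun x : Γ ⧸ ι.range => ρ (s x)) = ⊤ := by
  haveI := nontrivial_of_isIrreducible ρ
  set S := Submodule.span k (Set.range fun x : Γ ⧸ ι.range => ρ (s x)) with hS
  -- the dimension is invertible in `k`
  have hdim : (Module.finrank k V : k) ≠ 0 := by
    obtain ⟨v, hv⟩ := exists_ne (0 : V)
    obtain ⟨f, hf⟩ := Module.Projective.exists_dual_eq_one k hv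
    obtain ⟨c, -, hc⟩ := avg_eq_smul ι hcent ρ hw s hs (f.smulRight v)
    rw [LinearMap.trace_smulRight, hf, mul_one] at hc
    intro h0
    rw [h0, mul_zero] at hc
    exact hK hc.symm
  -- rank one operators lie in the span
  have hrank : ∀ (f : Module.Dual k V) (u : V), f.smulRight u ∈ S := by
    intro f u
    have hB : ∑ x : Γ ⧸ ι.range, f (ρ (s x)⁻¹ u) • ρ (s x) ∈ S :=
      Submodule.sum_mem _ fun x _ => Submodule.smul_mem _ _ (Submodule.subset_span ⟨x, rfl⟩)
    have hBeq : ∑ x : Γ ⧸ ι.range, f (ρ (s x)⁻¹ u) • ρ (s x) =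
        ((Fintype.card (Γ ⧸ ι.range) : k) / (Module.finrank k V : k)) • f.smulRight u := by
      ext v
      obtain ⟨c, hc1, hc2⟩ := avg_eq_smul ι hcent ρ hw s hs (f.smulRight v)
      have h1 := LinearMap.congr_fun hc1 u
      simp only [avg, LinearMap.sum_apply, conjOp_apply, LinearMap.smulRight_apply, map_smul,
        LinearMap.smul_apply, LinearMap.id_apply] at h1
      rw [LinearMap.trace_smulRight] at hc2
      have hc3 : c = (Fintype.card (Γ ⧸ ι.range) : k) / (Module.finrank k V : k) * f v := by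
        field_simp
        exact hc2
      simp only [LinearMap.sum_apply, LinearMap.smul_apply, LinearMap.smulRight_apply, smul_smul]
      rw [h1, hc3]
    rw [hBeq] at hB
    have hne : (Fintype.card (Γ ⧸ ι.range) : k) / (Module.finrank k V : k) ≠ 0 :=
      div_ne_zero hK hdim
    have := Submodule.smul_mem S ((Fintype.card (Γ ⧸ ι.range) : k) / (Module.finrank k V : k))⁻¹ hB
    rwa [smul_smul, inv_mul_cancel₀ hne, one_smul] at this
  rw [eq_top_iff]
  intro T _
  let b := Module.finBasis k V
  have hT : T = ∑ i, (b.coord i).smulRight (T (b i)) := by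
    apply b.ext
    intro j
    simp only [LinearMap.sum_apply, LinearMap.smulRight_apply, Module.Basis.coord_apply,
      Module.Basis.repr_self, Finsupp.single_apply]
    simp
  rw [hT]
  exact Submodule.sum_mem _ fun i _ => hrank _ _

include hι hcomm hw hcent in
theorem finrank_sq_eq_card [Representation.IsIrreducible ρ]
    (hK : (Fintype.card (Γ ⧸ ι.range) : k) ≠ 0) :
    Module.finrank k V ^ 2 = Fintype.card (Γ ⧸ ι.range) := by
  haveI := nontrivial_of_isIrreducible ρ
  let s : Γ ⧸ ι.range → Γ := fun x => Quotient.out x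
  have hs : ∀ x, (QuotientGroup.mk (s x) : Γ ⧸ ι.range) = x := fun x => QuotientGroup.out_eq' x
  have hli := linearIndependent_section ι hι hcent hcomm ρ hw s hs
  have hsp := span_section_eq_top ι hι hcent hcomm ρ hw hK s hs
  let B := Module.Basis.mk hli hsp.ge
  rw [pow_two, ← Module.finrank_linearMap k k V V, Module.finrank_eq_card_basis B]

end Dim

section Exist

variable {k : Type u} [Field k] {Γ : Type u} [Group Γ] (ι : kˣ →* Γ) (hι : Function.Injective ι)
  (hcent : ι.range = Subgroup.center Γ)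

/-- the space of functions of weight one on `Γ` -/
def U₀ : Submodule k (Γ → k) where
  carrier := {f | ∀ (z : kˣ) (g : Γ), f (ι z * g) = (z : k) * f g}
  add_mem' := by
    intro a b ha hb z g
    simp only [Pi.add_apply, ha z g, hb z g, mul_add]
  zero_mem' := by intro z g; simp
  smul_mem' := by
    intro c a ha z g
    simp only [Pi.smul_apply, ha z g, smul_eq_mul]; ring

/-- right translation on the functions of weight one -/
def ρ₀ : Representation k Γ (U₀ ι) where
  toFun g :=
    { toFun := fun f => ⟨fun x => f.1 (x * g), by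
        intro z x; show f.1 (ι z * x * g) = _; rw [mul_assoc]; exact f.2 z (x * g)⟩
      map_add' := by intro a b; rfl
      map_smul' := by intro c a; rfl }
  map_one' := by
    ext f x
    show f.1 (x * 1) = f.1 x
    rw [mul_one]
  map_mul' := by
    intro g h
    ext f x
    show f.1 (x * (g * h)) = f.1 (x * g * h)
    rw [mul_assoc]

lemma ρ₀_apply (g : Γ) (f : U₀ ι) (x : Γ) : (ρ₀ ι g f).1 x = f.1 (x * g) := rfl

include hcent in
lemma ρ₀_weight (z : kˣ) (f : U₀ ι) : ρ₀ ι (ι z) f = (z : k) • f := by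
  apply Subtype.ext
  funext x
  show f.1 (x * ι z) = (z : k) * f.1 x
  rw [central ι hcent ⟨z, rfl⟩ x]
  exact f.2 z x

include hcent in
lemma exists_eq_ι_mul (s : Γ ⧸ ι.range → Γ)
    (hs : ∀ x, (QuotientGroup.mk (s x) : Γ ⧸ ι.range) = x) (g : Γ) :
    ∃ z : kˣ, g = ι z * s (QuotientGroup.mk g) := by
  have := hs (QuotientGroup.mk g)
  rw [QuotientGroup.eq] at this
  obtain ⟨z, hz⟩ := this
  refine ⟨z, ?_⟩
  rw [hz, ← central ι hcent ⟨z, hz⟩, mul_inv_cancel_left]

include hcent in
lemma finiteDimensional_U₀ [Finite (Γ ⧸ ι.range)] : FiniteDimensional k (U₀ ι) := by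
  let s : Γ ⧸ ι.range → Γ := fun x => Quotient.out x
  have hs : ∀ x, (QuotientGroup.mk (s x) : Γ ⧸ ι.range) = x := fun x => QuotientGroup.out_eq' x
  let F : U₀ ι →ₗ[k] (Γ ⧸ ι.range → k) :=
    { toFun := fun f x => f.1 (s x)
      map_add' := by intro a b; rfl
      map_smul' := by intro c a; rfl }
  have hF : Function.Injective F := by
    rw [injective_iff_map_eq_zero]
    intro f hf
    apply Subtype.ext
    funext g
    obtain ⟨z, hz⟩ := exists_eq_ι_mul ι hcent s hs g
    have h1 : f.1 (s (QuotientGroup.mk g)) = 0 := congrFun hf (QuotientGroup.mk g)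
    show f.1 g = 0
    rw [hz, f.2 z, h1, mul_zero]
  exact FiniteDimensional.of_injective F hF

include hι hcent in
lemma nontrivial_U₀ [ι.range.Normal] : Nontrivial (U₀ ι) := by
  classical
  let s : Γ ⧸ ι.range → Γ := fun x => Quotient.out x
  have hs : ∀ x, (QuotientGroup.mk (s x) : Γ ⧸ ι.range) = x := fun x => QuotientGroup.out_eq' x
  let zc : Γ → kˣ := fun g => Classical.choose (exists_eq_ι_mul ι hcent s hs g)
  have hzc : ∀ g, g = ι (zc g) * s (QuotientGroup.mk g) := fun g =>
    Classical.choose_spec (exists_eq_ι_mul ι hcent s hs g)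
  have hmul : ∀ (z : kˣ) (g : Γ), zc (ι z * g) = z * zc g := by
    intro z g
    apply hι
    have h1 := hzc (ι z * g)
    have h2 : (QuotientGroup.mk (ι z * g) : Γ ⧸ ι.range) = QuotientGroup.mk g := by
      rw [QuotientGroup.mk_mul, (QuotientGroup.eq_one_iff (ι z)).2 (MonoidHom.mem_range.2 ⟨z, rfl⟩), one_mul]
    rw [h2] at h1
    nth_rewrite 1 [hzc g] at h1
    rw [← mul_assoc, ← map_mul] at h1
    exact (mul_right_cancel h1).symm
  let f₀ : U₀ ι := ⟨fun g => (zc g : k), by
    intro z g
    show ((zc (ι z * g) : kˣ) : k) = (z : k) * (zc g : k)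
    rw [hmul, Units.val_mul]⟩
  refine ⟨⟨f₀, 0, ?_⟩⟩
  intro h
  have : (f₀.1 1 : k) = 0 := by rw [h]; rfl
  exact (zc 1).ne_zero this

end Exist

section Irr

variable {k : Type u} [Field k] {Γ : Type u} [Group Γ] (ι : kˣ →* Γ)

/-- every nonzero finite-dimensional weight-one representation has an irreducible
weight-one subquotient (in fact subrepresentation), in the same universe -/
theorem exists_irreducible_aux (n : ℕ) : ∀ (V : Type u) [AddCommGroup V] [Module k V]
    [FiniteDimensional k V] [Nontrivial V] (ρ : Representation k Γ V),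
    (∀ (z : kˣ) (v : V), ρ (ι z) v = (z : k) • v) → Module.finrank k V = n →
    ∃ (V' : Type u) (_ : AddCommGroup V') (_ : Module k V') (_ : FiniteDimensional k V')
      (ρ' : Representation k Γ V'), Representation.IsIrreducible ρ' ∧
        ∀ (z : kˣ) (v : V'), ρ' (ι z) v = (z : k) • v := by
  induction n using Nat.strong_induction_on with
  | _ n ih =>
    intro V _ _ _ _ ρ hw hn
    by_cases hirr : Representation.IsIrreducible ρ
    · exact ⟨V, inferInstance, inferInstance, inferInstance, ρ, hirr, hw⟩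
    · have hnt : Nontrivial (Subrepresentation ρ) := by
        refine ⟨⟨⊥, ⊤, ?_⟩⟩
        intro h
        have h1 : (⊥ : Submodule k V) = ⊤ := congrArg Subrepresentation.toSubmodule h
        exact bot_ne_top h1
      have : ∃ N : Subrepresentation ρ, N ≠ ⊥ ∧ N ≠ ⊤ := by
        by_contra hcon
        push Not at hcon
        apply hirr
        exact ⟨fun N => by
          by_cases h : N = ⊥
          · exact Or.inl h
          · exact Or.inr (hcon N h)⟩
      obtain ⟨N, hN0, hN1⟩ := this
      have hN0' : N.toSubmodule ≠ ⊥ := fun h => hN0 (Subrepresentation.toSubmodule_injective h)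
      have hN1' : N.toSubmodule ≠ ⊤ := fun h => hN1 (Subrepresentation.toSubmodule_injective h)
      haveI : Nontrivial N.toSubmodule := Submodule.nontrivial_iff_ne_bot.2 hN0'
      have hlt : Module.finrank k N.toSubmodule < n := hn ▸ Submodule.finrank_lt hN1'
      exact ih _ hlt N.toSubmodule N.toRepresentation
        (fun z v => Subtype.ext (hw z v.1)) rfl

end Irr

section Maschke

variable {k : Type u} [Field k] {Γ : Type u} [Group Γ] (ι : kˣ →* Γ)
  (hcent : ι.range = Subgroup.center Γ)
variable {W : Type*} [AddCommGroup W] [Module k W] (σ : Representation k Γ W)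
  (hσ : ∀ (z : kˣ) (v : W), σ (ι z) v = (z : k) • v)
variable [ι.range.Normal] [Fintype (Γ ⧸ ι.range)]

include hσ hcent in
/-- Maschke for weight-one representations: every subrepresentation has an invariant complement. -/
theorem exists_isCompl_subrepresentation (hK : (Fintype.card (Γ ⧸ ι.range) : k) ≠ 0)
    (N : Subrepresentation σ) : ∃ N' : Subrepresentation σ, IsCompl N N' := by
  let s : Γ ⧸ ι.range → Γ := fun x => Quotient.out x
  have hs : ∀ x, (QuotientGroup.mk (s x) : Γ ⧸ ι.range) = x := fun x => QuotientGroup.out_eq' x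
  obtain ⟨p, hp⟩ := LinearMap.exists_leftInverse_of_injective N.toSubmodule.subtype
    (Submodule.ker_subtype _)
  let T : W →ₗ[k] W := N.toSubmodule.subtype ∘ₗ p
  have hTmem : ∀ w, T w ∈ N.toSubmodule := fun w => (p w).2
  have hTid : ∀ w ∈ N.toSubmodule, T w = w := by
    intro w hw
    have := LinearMap.congr_fun hp ⟨w, hw⟩
    exact congrArg Subtype.val this
  let P : W →ₗ[k] W := (Fintype.card (Γ ⧸ ι.range) : k)⁻¹ • avg ι σ σ s T
  have hPmem : ∀ w, P w ∈ N.toSubmodule := by
    intro w
    refine Submodule.smul_mem _ _ ?_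
    simp only [avg, LinearMap.sum_apply, conjOp_apply]
    exact Submodule.sum_mem _ fun x _ => N.apply_mem_toSubmodule _ (hTmem _)
  have hPid : ∀ w ∈ N.toSubmodule, P w = w := by
    intro w hw
    have h1 : avg ι σ σ s T w = (Fintype.card (Γ ⧸ ι.range) : k) • w := by
      simp only [avg, LinearMap.sum_apply, conjOp_apply]
      rw [Finset.sum_congr rfl (g := fun _ => w)]
      · simp [Nat.cast_smul_eq_nsmul]
      · intro x _
        rw [hTid _ (N.apply_mem_toSubmodule _ hw), ← Module.End.mul_apply, ← map_mul,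
          mul_inv_cancel, map_one, Module.End.one_apply]
    show (Fintype.card (Γ ⧸ ι.range) : k)⁻¹ • avg ι σ σ s T w = w
    rw [h1, smul_smul, inv_mul_cancel₀ hK, one_smul]
  have hPcomm : ∀ g, P ∘ₗ σ g = σ g ∘ₗ P := by
    intro g
    show ((Fintype.card (Γ ⧸ ι.range) : k)⁻¹ • avg ι σ σ s T) ∘ₗ σ g =
      σ g ∘ₗ ((Fintype.card (Γ ⧸ ι.range) : k)⁻¹ • avg ι σ σ s T)
    rw [LinearMap.smul_comp, LinearMap.comp_smul, avg_comm ι hcent σ hσ σ hσ s hs]
  let N' : Subrepresentation σ :=
    { toSubmodule := LinearMap.ker P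
      apply_mem_toSubmodule := by
        intro g v hv
        rw [LinearMap.mem_ker] at hv ⊢
        have := LinearMap.congr_fun (hPcomm g) v
        simp only [LinearMap.comp_apply] at this
        rw [this, hv, map_zero] }
  refine ⟨N', ?_⟩
  rw [isCompl_iff, disjoint_iff, codisjoint_iff]
  constructor
  · apply Subrepresentation.toSubmodule_injective
    show N.toSubmodule ⊓ LinearMap.ker P = ⊥
    rw [eq_bot_iff]
    rintro v ⟨hv1, hv2⟩
    have := hPid v hv1
    rw [LinearMap.mem_ker.1 hv2] at this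
    rw [Submodule.mem_bot]; exact this.symm
  · apply Subrepresentation.toSubmodule_injective
    show N.toSubmodule ⊔ LinearMap.ker P = ⊤
    rw [eq_top_iff]
    intro v _
    rw [Submodule.mem_sup]
    refine ⟨P v, hPmem v, v - P v, ?_, by abel⟩
    rw [LinearMap.mem_ker, map_sub, hPid _ (hPmem v), sub_self]

end Maschke

section Inv

variable {k : Type*} [Field k] {G : Type*} [Group G] {W : Type*} [AddCommGroup W] [Module k W]
  (σ : Representation k G W)

lemma finrank_invariants_sub (H : Subgroup G) (N : Subrepresentation σ) :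
    Module.finrank k (Representation.invariants (N.toRepresentation.comp H.subtype)) =
      Module.finrank k ↥(N.toSubmodule ⊓ Representation.invariants (σ.comp H.subtype)) := by
  have hmap : Submodule.map N.toSubmodule.subtype
      (Representation.invariants (N.toRepresentation.comp H.subtype)) =
      N.toSubmodule ⊓ Representation.invariants (σ.comp H.subtype) := by
    ext v
    simp only [Submodule.mem_map, Submodule.mem_inf, Representation.mem_invariants]
    constructor
    · rintro ⟨n, hn, rfl⟩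
      exact ⟨n.2, fun h => congrArg Subtype.val (hn h)⟩
    · rintro ⟨hv, hinv⟩
      exact ⟨⟨v, hv⟩, fun h => Subtype.ext (hinv h), rfl⟩
  rw [← hmap, Submodule.finrank_map_subtype_eq]

lemma finrank_invariants_of_isCompl [FiniteDimensional k W] (H : Subgroup G)
    {N N' : Subrepresentation σ} (hc : IsCompl N N') :
    Module.finrank k (Representation.invariants (σ.comp H.subtype)) =
      Module.finrank k (Representation.invariants (N.toRepresentation.comp H.subtype)) +
      Module.finrank k (Representation.invariants (N'.toRepresentation.comp H.subtype)) := by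
  rw [finrank_invariants_sub, finrank_invariants_sub]
  set I := Representation.invariants (σ.comp H.subtype) with hI
  have hdisj : N.toSubmodule ⊓ N'.toSubmodule = ⊥ := by
    have := hc.disjoint.eq_bot
    exact congrArg Subrepresentation.toSubmodule this
  have hcod : N.toSubmodule ⊔ N'.toSubmodule = ⊤ := by
    have := hc.codisjoint.eq_top
    exact congrArg Subrepresentation.toSubmodule this
  have h1 : (N.toSubmodule ⊓ I) ⊓ (N'.toSubmodule ⊓ I) = ⊥ := by
    rw [eq_bot_iff, ← hdisj]
    exact inf_le_inf inf_le_left inf_le_left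
  have h2 : (N.toSubmodule ⊓ I) ⊔ (N'.toSubmodule ⊓ I) = I := by
    apply le_antisymm (sup_le inf_le_right inf_le_right)
    intro v hv
    have hvt : v ∈ N.toSubmodule ⊔ N'.toSubmodule := by rw [hcod]; trivial
    obtain ⟨n, hn, n', hn', rfl⟩ := Submodule.mem_sup.1 hvt
    have hinv : ∀ h : H, σ h.1 n = n ∧ σ h.1 n' = n' := by
      intro h
      have h3 : σ h.1 (n + n') = n + n' := hv h
      rw [map_add] at h3
      have h4 : σ h.1 n - n = n' - σ h.1 n' := by
        rw [sub_eq_sub_iff_add_eq_add, h3, add_comm]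
      have h5 : σ h.1 n - n ∈ N.toSubmodule ⊓ N'.toSubmodule := by
        refine ⟨Submodule.sub_mem _ (N.apply_mem_toSubmodule _ hn) hn, ?_⟩
        rw [h4]
        exact Submodule.sub_mem _ hn' (N'.apply_mem_toSubmodule _ hn')
      rw [hdisj, Submodule.mem_bot] at h5
      refine ⟨sub_eq_zero.1 h5, ?_⟩
      rw [h5] at h4
      exact (sub_eq_zero.1 h4.symm).symm
    exact Submodule.mem_sup.2 ⟨n, ⟨hn, fun h => (hinv h).1⟩, n', ⟨hn', fun h => (hinv h).2⟩, rfl⟩
  have := Submodule.finrank_sup_add_finrank_inf_eq (N.toSubmodule ⊓ I) (N'.toSubmodule ⊓ I)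
  rw [h1, h2, finrank_bot, add_zero] at this
  exact this

end Inv

section Key

variable {k : Type u} [Field k] {Γ : Type u} [Group Γ] (ι : kˣ →* Γ)
  (hι : Function.Injective ι)
  (hcent : ι.range = Subgroup.center Γ) (hcomm : commutator Γ ≤ ι.range)
variable {V : Type*} [AddCommGroup V] [Module k V]
  (ρ : Representation k Γ V)
  (hw : ∀ (z : kˣ) (v : V), ρ (ι z) v = (z : k) • v)

include hι hcomm hw hcent in
theorem linearIndependent_of_injective_mk [Nontrivial V] {I : Type*} (g : I → Γ)
    (hg : Function.Injective fun i => (QuotientGroup.mk (g i) : Γ ⧸ ι.range)) :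
    LinearIndependent k (fun i => ρ (g i)) := by
  classical
  let s : Γ ⧸ ι.range → Γ := fun x =>
    if h : ∃ i, (QuotientGroup.mk (g i) : Γ ⧸ ι.range) = x then g (Classical.choose h)
    else Quotient.out x
  have hs : ∀ x, (QuotientGroup.mk (s x) : Γ ⧸ ι.range) = x := by
    intro x
    by_cases h : ∃ i, (QuotientGroup.mk (g i) : Γ ⧸ ι.range) = x
    · simp only [s, dif_pos h]; exact Classical.choose_spec h
    · simp only [s, dif_neg h]; exact QuotientGroup.out_eq' x
  have hsg : ∀ i, s (QuotientGroup.mk (g i)) = g i := by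
    intro i
    have h : ∃ j, (QuotientGroup.mk (g j) : Γ ⧸ ι.range) = QuotientGroup.mk (g i) := ⟨i, rfl⟩
    simp only [s, dif_pos h]
    exact congrArg g (hg (Classical.choose_spec h))
  have hli := linearIndependent_section ι hι hcent hcomm ρ hw s hs
  have := hli.comp (fun i => (QuotientGroup.mk (g i) : Γ ⧸ ι.range)) hg
  convert this using 1
  funext i
  simp [hsg]

variable (H : Subgroup Γ) (hH : H ⊓ ι.range = ⊥)

include hH in
lemma level_injective [ι.range.Normal] :
    Function.Injective ((QuotientGroup.mk' ι.range).comp H.subtype) := by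
  rw [injective_iff_map_eq_one]
  intro a ha
  have h1 : (a : Γ) ∈ ι.range := (QuotientGroup.eq_one_iff _).1 ha
  have h2 : (a : Γ) ∈ H ⊓ ι.range := ⟨a.2, h1⟩
  rw [hH, Subgroup.mem_bot] at h2
  exact Subtype.ext h2

include hH in
lemma level_finite [ι.range.Normal] [Finite (Γ ⧸ ι.range)] : Finite H :=
  Finite.of_injective _ (level_injective ι H hH)

include hH in
lemma level_card_ne_zero [ι.range.Normal] [Fintype (Γ ⧸ ι.range)] [Fintype H]
    (hK : (Fintype.card (Γ ⧸ ι.range) : k) ≠ 0) : (Fintype.card H : k) ≠ 0 := by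
  have hdvd := Subgroup.card_dvd_of_injective _ (level_injective ι H hH)
  rw [Nat.card_eq_fintype_card, Nat.card_eq_fintype_card] at hdvd
  obtain ⟨m, hm⟩ := hdvd
  intro h0
  apply hK
  rw [hm, Nat.cast_mul, h0, zero_mul]

/-- stabilizer of a vector -/
def stab (v : V) : Subgroup Γ where
  carrier := {x | ρ x v = v}
  mul_mem' := by
    intro a b ha hb
    show ρ (a * b) v = v
    rw [map_mul, Module.End.mul_apply, hb.out, ha.out]
  one_mem' := by show ρ 1 v = v; simp
  inv_mem' := by
    intro a ha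
    show ρ a⁻¹ v = v
    conv_lhs => rw [← ha.out]
    rw [← Module.End.mul_apply, ← map_mul, inv_mul_cancel, map_one, Module.End.one_apply]

lemma mem_stab (v : V) (x : Γ) : x ∈ stab ρ v ↔ ρ x v = v := Iff.rfl

variable (hmax : ∀ H' : Subgroup Γ, H' ⊓ ι.range = ⊥ → H ≤ H' → H' = H)

include hw hcent hmax in
/-- an element centralizing a maximal level subgroup `H` lies in `H · kˣ` -/
lemma mem_of_centralizes [IsAlgClosed k] [FiniteDimensional k V]
    [Nontrivial (Representation.invariants (ρ.comp H.subtype))]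
    (g : Γ) (hg : ∀ h ∈ H, g * h = h * g) : ∃ h ∈ H, ∃ z : kˣ, g = h * ι z := by
  set Inv := Representation.invariants (ρ.comp H.subtype) with hInv
  have hmaps : ∀ v ∈ Inv, ρ g v ∈ Inv := by
    intro v hv h
    show ρ h.1 (ρ g v) = ρ g v
    rw [← Module.End.mul_apply, ← map_mul, ← hg h.1 h.2, map_mul, Module.End.mul_apply]
    congr 1
    exact hv h
  let f : Module.End k Inv := (ρ g).restrict hmaps
  obtain ⟨c, hc⟩ := Module.End.exists_eigenvalue f
  obtain ⟨v, hv⟩ := hc.exists_hasEigenvector
  have hv0 : (v : V) ≠ 0 := fun h => hv.2 (Subtype.ext h)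
  have hgv : ρ g v = c • (v : V) := congrArg Subtype.val hv.apply_eq_smul
  have hc0 : c ≠ 0 := by
    intro h0
    rw [h0, zero_smul] at hgv
    apply hv0
    have := congrArg (ρ g⁻¹) hgv
    rwa [← Module.End.mul_apply, ← map_mul, inv_mul_cancel, map_one, Module.End.one_apply,
      map_zero] at this
  let z : kˣ := Units.mk0 c hc0
  have hg' : g * ι z⁻¹ ∈ stab ρ (v : V) := by
    rw [mem_stab, map_mul, Module.End.mul_apply, hw, map_smul, hgv, smul_smul]
    simp only [z, Units.val_inv_eq_inv_val, Units.val_mk0]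
    rw [inv_mul_cancel₀ hc0, one_smul]
  have hHle : H ≤ stab ρ (v : V) := by
    intro h hh
    exact v.2 ⟨h, hh⟩
  have hlevel : stab ρ (v : V) ⊓ ι.range = ⊥ := by
    rw [eq_bot_iff]
    rintro x ⟨hx1, ⟨z', rfl⟩⟩
    have hx1 : ρ (ι z') (v : V) = v := hx1
    rw [hw] at hx1
    have h1 : ((z' : k) - 1) • (v : V) = 0 := by rw [sub_smul, hx1, one_smul, sub_self]
    rcases smul_eq_zero.1 h1 with h2 | h2
    · rw [Subgroup.mem_bot]
      have : z' = 1 := Units.ext (sub_eq_zero.1 h2)
      rw [this, map_one]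
    · exact absurd h2 hv0
  have := hmax _ hlevel hHle
  rw [this] at hg'
  refine ⟨g * ι z⁻¹, hg', z, ?_⟩
  rw [mul_assoc, ← map_mul, inv_mul_cancel, map_one, mul_one]

end Key

section Key2

variable {k : Type u} [Field k] {Γ : Type u} [Group Γ] (ι : kˣ →* Γ)
  (hι : Function.Injective ι)
  (hcent : ι.range = Subgroup.center Γ) (hcomm : commutator Γ ≤ ι.range)
variable {V : Type*} [AddCommGroup V] [Module k V]
  (ρ : Representation k Γ V)
  (hw : ∀ (z : kˣ) (v : V), ρ (ι z) v = (z : k) • v)
variable (H : Subgroup Γ) (hH : H ⊓ ι.range = ⊥)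
  (hmax : ∀ H' : Subgroup Γ, H' ⊓ ι.range = ⊥ → H ≤ H' → H' = H)

/-- the averaging operator of the subgroup `H` -/
def eH [Fintype H] : Module.End k V := (Fintype.card H : k)⁻¹ • ∑ h : H, ρ h.1

lemma rho_mul_eH [Fintype H] (h : H) : ρ h.1 * eH ρ H = eH ρ H := by
  unfold eH
  rw [mul_smul_comm, Finset.mul_sum]
  congr 1
  simp only [← map_mul]
  exact Equiv.sum_comp (Equiv.mulLeft h) (fun x : H => ρ x.1)

lemma eH_mul_rho [Fintype H] (h : H) : eH ρ H * ρ h.1 = eH ρ H := by
  unfold eH
  rw [smul_mul_assoc, Finset.sum_mul]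
  congr 1
  simp only [← map_mul]
  exact Equiv.sum_comp (Equiv.mulRight h) (fun x : H => ρ x.1)

lemma eH_apply_mem [Fintype H] (v : V) :
    eH ρ H v ∈ Representation.invariants (ρ.comp H.subtype) := by
  intro h
  show ρ h.1 (eH ρ H v) = eH ρ H v
  rw [← Module.End.mul_apply, rho_mul_eH]

lemma eH_apply_of_mem [Fintype H] (hc : (Fintype.card H : k) ≠ 0) (v : V)
    (hv : v ∈ Representation.invariants (ρ.comp H.subtype)) : eH ρ H v = v := by
  have h1 : ∀ h : H, ρ h.1 v = v := fun h => hv h
  simp only [eH, LinearMap.smul_apply, LinearMap.sum_apply, h1, Finset.sum_const, Finset.card_univ,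
    ← Nat.cast_smul_eq_nsmul k, smul_smul]
  rw [inv_mul_cancel₀ hc, one_smul]

lemma eH_mul_eH [Fintype H] (hc : (Fintype.card H : k) ≠ 0) : eH ρ H * eH ρ H = eH ρ H := by
  ext v
  rw [Module.End.mul_apply, eH_apply_of_mem ρ H hc _ (eH_apply_mem ρ H v)]

include hι hcomm hw hcent hH hmax in
/-- the invariants of a maximal level subgroup in the irreducible weight-one representation
are one-dimensional -/
theorem finrank_invariants_eq_one [IsAlgClosed k] [FiniteDimensional k V] [ι.range.Normal]
    [Fintype (Γ ⧸ ι.range)] [Representation.IsIrreducible ρ]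
    (hK : (Fintype.card (Γ ⧸ ι.range) : k) ≠ 0) :
    Module.finrank k (Representation.invariants (ρ.comp H.subtype)) = 1 := by
  classical
  haveI := nontrivial_of_isIrreducible ρ
  haveI : Finite H := level_finite ι H hH
  letI : Fintype H := Fintype.ofFinite H
  have hHc : (Fintype.card H : k) ≠ 0 := level_card_ne_zero ι H hH hK
  set e := eH ρ H with he
  have he0 : e ≠ 0 := by
    intro h0
    have hli := linearIndependent_of_injective_mk ι hι hcent hcomm ρ hw (fun h : H => h.1)
      (level_injective ι H hH)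
    rw [Fintype.linearIndependent_iff] at hli
    have h1 : ∑ h : H, (1 : k) • ρ h.1 = 0 := by
      have := congrArg (fun T => (Fintype.card H : k) • T) h0
      simp only [he, eH, smul_smul, mul_inv_cancel₀ hHc, one_smul, smul_zero] at this
      simpa using this
    exact one_ne_zero (hli (fun _ => 1) h1 1)
  obtain ⟨v₀, hv₀⟩ : ∃ v, e v ≠ 0 := by
    by_contra hcon
    push Not at hcon
    apply he0
    ext v
    simp [hcon v]
  haveI : Nontrivial (Representation.invariants (ρ.comp H.subtype)) :=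
    ⟨⟨⟨e v₀, eH_apply_mem ρ H v₀⟩, 0, fun h => hv₀ (congrArg Subtype.val h)⟩⟩
  have hg : ∀ g, ∃ c : k, e * ρ g * e = c • e := by
    intro g
    by_cases hcomm' : ∀ h ∈ H, g * h = h * g
    · obtain ⟨h, hh, z, rfl⟩ := mem_of_centralizes ι hcent ρ hw H hmax g hcomm'
      refine ⟨z, ?_⟩
      rw [map_mul, rho_ι ι ρ hw, mul_smul_comm, mul_one, mul_smul_comm, smul_mul_assoc,
        eH_mul_rho ρ H ⟨h, hh⟩, eH_mul_eH ρ H hHc]
    · push Not at hcomm'
      obtain ⟨h₀, hh₀, hne⟩ := hcomm'
      refine ⟨0, ?_⟩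
      rw [zero_smul]
      set c : k := ((e₀ ι hι hcomm h₀ g : kˣ) : k) with hc
      have h1 : e * ρ g * e = c • (e * ρ g * e) := by
        calc e * ρ g * e = (e * ρ h₀) * ρ g * e := by rw [eH_mul_rho ρ H ⟨h₀, hh₀⟩]
          _ = e * (ρ h₀ * ρ g) * e := by rw [mul_assoc e]
          _ = e * (c • (ρ g * ρ h₀)) * e := by rw [rho_comm ι hι hcomm ρ hw h₀ g]
          _ = c • (e * ρ g * (ρ h₀ * e)) := by
            simp only [mul_assoc, smul_mul_assoc, mul_smul_comm]
          _ = c • (e * ρ g * e) := by rw [rho_mul_eH ρ H ⟨h₀, hh₀⟩]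
      have hc1 : c ≠ 1 := by
        intro h
        apply hne
        have : e₀ ι hι hcomm h₀ g = 1 := Units.ext h
        exact ((e₀_eq_one_iff ι hι hcomm _ _).1 this).symm
      have h2 : (1 - c) • (e * ρ g * e) = 0 := by rw [sub_smul, one_smul, ← h1, sub_self]
      rcases smul_eq_zero.1 h2 with h | h
      · exact absurd (sub_eq_zero.1 h).symm hc1
      · exact h
  let s : Γ ⧸ ι.range → Γ := fun x => Quotient.out x
  have hs : ∀ x, (QuotientGroup.mk (s x) : Γ ⧸ ι.range) = x := fun x => QuotientGroup.out_eq' x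
  have hT : ∀ T : Module.End k V, ∃ c : k, e * T * e = c • e := by
    intro T
    have hsp := span_section_eq_top ι hι hcent hcomm ρ hw hK s hs
    have hTmem : T ∈ Submodule.span k (Set.range fun x : Γ ⧸ ι.range => ρ (s x)) := by
      rw [hsp]; trivial
    induction hTmem using Submodule.span_induction with
    | mem x hx => obtain ⟨y, rfl⟩ := hx; exact hg _
    | zero => exact ⟨0, by simp⟩
    | add a b _ _ ha hb =>
      obtain ⟨c1, h1⟩ := ha
      obtain ⟨c2, h2⟩ := hb
      exact ⟨c1 + c2, by rw [mul_add, add_mul, h1, h2, add_smul]⟩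
    | smul r a _ ha =>
      obtain ⟨c1, h1⟩ := ha
      exact ⟨r * c1, by rw [mul_smul_comm, smul_mul_assoc, h1, smul_smul]⟩
  rw [finrank_eq_one_iff']
  refine ⟨⟨e v₀, eH_apply_mem ρ H v₀⟩, fun h => hv₀ (congrArg Subtype.val h), ?_⟩
  rintro ⟨w, hw'⟩
  obtain ⟨f, hf⟩ := Module.Projective.exists_dual_eq_one k hv₀
  obtain ⟨c, hc⟩ := hT (f.smulRight w)
  refine ⟨c, Subtype.ext ?_⟩
  have := LinearMap.congr_fun hc v₀
  simp only [Module.End.mul_apply, LinearMap.smulRight_apply, hf, one_smul,
    LinearMap.smul_apply] at this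
  rw [eH_apply_of_mem ρ H hHc w hw'] at this
  exact this.symm

end Key2

section Final

variable {k : Type u} [Field k] [IsAlgClosed k] {Γ : Type u} [Group Γ] (ι : kˣ →* Γ)
  (hι : Function.Injective ι)
  (hcent : ι.range = Subgroup.center Γ) (hcomm : commutator Γ ≤ ι.range)
  [ι.range.Normal] [Fintype (Γ ⧸ ι.range)] (hK : (Fintype.card (Γ ⧸ ι.range) : k) ≠ 0)
variable (H : Subgroup Γ) (hH : H ⊓ ι.range = ⊥)
  (hmax : ∀ H' : Subgroup Γ, H' ⊓ ι.range = ⊥ → H ≤ H' → H' = H)
variable {V : Type u} [AddCommGroup V] [Module k V] [FiniteDimensional k V]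
  (ρ : Representation k Γ V) (hw : ∀ (z : kˣ) (v : V), ρ (ι z) v = (z : k) • v)
  [Representation.IsIrreducible ρ]

include hι hcent hcomm hK hH hmax hw in
theorem finrank_eq_invariants_mul_aux (n : ℕ) : ∀ (W : Type u) [AddCommGroup W] [Module k W]
    [FiniteDimensional k W] (σ : Representation k Γ W),
    (∀ (z : kˣ) (v : W), σ (ι z) v = (z : k) • v) → Module.finrank k W = n →
    Module.finrank k W =
      Module.finrank k (Representation.invariants (σ.comp H.subtype)) * Module.finrank k V := by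
  induction n using Nat.strong_induction_on with
  | _ n ih =>
    intro W _ _ _ σ hσ hn
    by_cases hsub : Subsingleton W
    · rw [Module.finrank_zero_of_subsingleton, Module.finrank_zero_of_subsingleton, zero_mul]
    rw [not_subsingleton_iff_nontrivial] at hsub
    by_cases hirr : Representation.IsIrreducible σ
    · obtain ⟨e⟩ := nonempty_equiv_of_isIrreducible ι hι hcent hcomm ρ hw σ hσ
      rw [finrank_invariants_eq_one ι hι hcent hcomm σ hσ H hH hmax hK, one_mul]
      exact e.toLinearEquiv.finrank_eq.symm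
    · have : ∃ N : Subrepresentation σ, N ≠ ⊥ ∧ N ≠ ⊤ := by
        by_contra hcon
        push Not at hcon
        apply hirr
        have hnt : Nontrivial (Subrepresentation σ) := by
          refine ⟨⟨⊥, ⊤, ?_⟩⟩
          intro h
          have h1 : (⊥ : Submodule k W) = ⊤ := congrArg Subrepresentation.toSubmodule h
          exact bot_ne_top h1
        exact ⟨fun N => by
          by_cases h : N = ⊥
          · exact Or.inl h
          · exact Or.inr (hcon N h)⟩
      obtain ⟨N, hN0, hN1⟩ := this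
      obtain ⟨N', hc⟩ := exists_isCompl_subrepresentation ι hcent σ hσ hK N
      have hN0' : N.toSubmodule ≠ ⊥ := fun h => hN0 (Subrepresentation.toSubmodule_injective h)
      have hN1' : N.toSubmodule ≠ ⊤ := fun h => hN1 (Subrepresentation.toSubmodule_injective h)
      have hcs : IsCompl N.toSubmodule N'.toSubmodule := by
        rw [isCompl_iff, disjoint_iff, codisjoint_iff]
        exact ⟨congrArg Subrepresentation.toSubmodule hc.disjoint.eq_bot,
          congrArg Subrepresentation.toSubmodule hc.codisjoint.eq_top⟩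
      have hsum := Submodule.finrank_add_eq_of_isCompl hcs
      have hlt : Module.finrank k N.toSubmodule < n := hn ▸ Submodule.finrank_lt hN1'
      have hpos : 0 < Module.finrank k N.toSubmodule := by
        rw [Module.finrank_pos_iff]
        exact Submodule.nontrivial_iff_ne_bot.2 hN0'
      have hlt' : Module.finrank k N'.toSubmodule < n := by omega
      have h1 := ih _ hlt N.toSubmodule N.toRepresentation
        (fun z v => Subtype.ext (hσ z v.1)) rfl
      have h2 := ih _ hlt' N'.toSubmodule N'.toRepresentation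
        (fun z v => Subtype.ext (hσ z v.1)) rfl
      rw [finrank_invariants_of_isCompl σ H hc, add_mul, ← h1, ← h2, hsum]

end Final

end Groth.Agent.Lib.Helper71.Heisenberg
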