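/-
helper71: abstract incidence relations (families of curves meeting pairwise in `h` points):
degree of a point, finiteness of the set of multiple points, double counting.
-/
import Mathlib

set_option autoImplicit false
universe u v

namespace Groth.Agent.Lib.Helper71.Incidence

open Classical

variable {P : Type u} {ι : Type v} [Fintype ι] (inc : P → ι → Prop)

/-- the number of members of the family through `p` -/
noncomputable def deg (p : P) : ℕ := Nat.card {j : ι // inc p j}

lemma deg_eq_card_filter (p : P) : deg inc p = (Finset.univ.filter (inc p)).card := by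
  unfold deg
  rw [Nat.card_eq_fintype_card, Fintype.card_subtype]

lemma deg_le (p : P) : deg inc p ≤ Fintype.card ι := by
  rw [deg_eq_card_filter]
  exact Finset.card_filter_le _ _

lemma two_le_deg_iff (p : P) : 2 ≤ deg inc p ↔ ∃ i j, i ≠ j ∧ inc p i ∧ inc p j := by
  rw [deg_eq_card_filter, Nat.succ_le_iff, Finset.one_lt_card]
  constructor
  · rintro ⟨a, ha, b, hb, hab⟩
    exact ⟨a, b, hab, (Finset.mem_filter.1 ha).2, (Finset.mem_filter.1 hb).2⟩
  · rintro ⟨a, b, hab, ha, hb⟩
    exact ⟨a, Finset.mem_filter.2 ⟨Finset.mem_univ _, ha⟩, b,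
      Finset.mem_filter.2 ⟨Finset.mem_univ _, hb⟩, hab⟩

variable (hfin : ∀ i j : ι, i ≠ j → {p : P | inc p i ∧ inc p j}.Finite)

include hfin in
lemma finite_multiple : {p : P | 2 ≤ deg inc p}.Finite := by
  have : {p : P | 2 ≤ deg inc p} =
      ⋃ x ∈ (Finset.univ.offDiag : Finset (ι × ι)), {p | inc p x.1 ∧ inc p x.2} := by
    ext p
    simp only [Set.mem_setOf_eq, two_le_deg_iff, Set.mem_iUnion, Finset.mem_offDiag,
      Finset.mem_univ, true_and, exists_prop, Prod.exists]
  rw [this]
  refine Set.Finite.biUnion (Finset.finite_toSet _) ?_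
  rintro ⟨i, j⟩ hx
  exact hfin i j (Finset.mem_offDiag.1 hx).2.2

/-- the finite set of multiple points -/
noncomputable def M : Finset P := (finite_multiple inc hfin).toFinset

lemma mem_M (p : P) : p ∈ M inc hfin ↔ 2 ≤ deg inc p := by
  simp [M]

lemma mem_M_of_inc {p : P} {i j : ι} (hij : i ≠ j) (hi : inc p i) (hj : inc p j) :
    p ∈ M inc hfin :=
  (mem_M inc hfin p).2 ((two_le_deg_iff inc p).2 ⟨i, j, hij, hi, hj⟩)

lemma card_filter_inter (i j : ι) (hij : i ≠ j) :
    ((M inc hfin).filter fun p => inc p i ∧ inc p j).card =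
      {p : P | inc p i ∧ inc p j}.ncard := by
  rw [← Set.ncard_coe_finset]
  congr 1
  ext p
  simp only [Finset.coe_filter, Set.mem_setOf_eq, and_iff_right_iff_imp]
  rintro ⟨hi, hj⟩
  exact mem_M_of_inc inc hfin hij hi hj

lemma natCard_multiple :
    Nat.card {p : P // 2 ≤ deg inc p} = (M inc hfin).card := by
  rw [← Set.ncard_coe_finset]
  show Nat.card ↥{p : P | 2 ≤ deg inc p} = _
  rw [Nat.card_coe_set_eq]
  congr 1
  ext p
  simp [mem_M]

/-- the multiple points lying on the member `i` -/
noncomputable def Mi (i : ι) : Finset P := (M inc hfin).filter fun p => inc p i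

lemma inter_subset_Mi (i j : ι) :
    ((M inc hfin).filter fun p => inc p i ∧ inc p j) ⊆ Mi inc hfin i := by
  intro p hp
  rw [Finset.mem_filter] at hp
  exact Finset.mem_filter.2 ⟨hp.1, hp.2.1⟩

variable (h : ℕ) (hcount : ∀ i j : ι, i ≠ j → {p : P | inc p i ∧ inc p j}.ncard = h)

include hcount in
lemma card_inter (i j : ι) (hij : i ≠ j) :
    ((M inc hfin).filter fun p => inc p i ∧ inc p j).card = h := by
  rw [card_filter_inter inc hfin i j hij, hcount i j hij]

include hcount in
/-- if no point lies on all members, every member carries at least `h + 1` multiple points -/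
lemma succ_le_card_Mi (hh : 0 < h) (hd : 2 ≤ Fintype.card ι) (hnone : ∀ p : P, ∃ i : ι, ¬ inc p i)
    (i : ι) : h + 1 ≤ (Mi inc hfin i).card := by
  by_contra hcon
  push Not at hcon
  have hle : (Mi inc hfin i).card ≤ h := Nat.lt_succ_iff.1 hcon
  have heq : ∀ l : ι, l ≠ i →
      ((M inc hfin).filter fun p => inc p i ∧ inc p l) = Mi inc hfin i := by
    intro l hl
    apply Finset.eq_of_subset_of_card_le (inter_subset_Mi inc hfin i l)
    rw [card_inter inc hfin h hcount i l hl.symm]
    exact hle
  obtain ⟨j, hj⟩ := Fintype.exists_ne_of_one_lt_card (Nat.lt_of_lt_of_le one_lt_two hd) i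
  have hne : (Mi inc hfin i).Nonempty := by
    rw [← heq j hj, ← Finset.card_pos, card_inter inc hfin h hcount i j hj.symm]
    exact hh
  obtain ⟨p, hp⟩ := hne
  obtain ⟨l, hl⟩ := hnone p
  have hli : l ≠ i := by
    rintro rfl
    exact hl (Finset.mem_filter.1 hp).2
  rw [← heq l hli] at hp
  exact hl (Finset.mem_filter.1 hp).2.2

end Groth.Agent.Lib.Helper71.Incidence
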