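/-
helper71: over a PID `R`, for a free module `M` with basis `b` and a submodule `N` with a basis `bN`
indexed by the same finite type, `length (M ⧸ N) = ord (det (b.toMatrix bN))`.
Also: trace compatibility / discriminant of a full-rank subalgebra.
-/
import Mathlib

set_option autoImplicit false

namespace Groth.Agent.Lib.Helper71.LengthDet

open Module

section Length

variable {R : Type*} [CommRing R] [IsDomain R] [IsPrincipalIdealRing R]
variable {M : Type*} [AddCommGroup M] [Module R M]
variable {ι : Type*} [Fintype ι] [DecidableEq ι]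

lemma ord_prod (s : Finset ι) (a : ι → R) (ha : ∀ i, a i ≠ 0) :
    Ring.ord R (∏ i ∈ s, a i) = ∑ i ∈ s, Ring.ord R (a i) := by
  classical
  induction s using Finset.induction_on with
  | empty => simp
  | insert i s hi ih =>
    rw [Finset.prod_insert hi, Finset.sum_insert hi,
      Ring.ord_mul R (mem_nonZeroDivisors_of_ne_zero
        (Finset.prod_ne_zero_iff.2 fun j _ => ha j)), ih]

/-- `det` of the matrix of a basis of a full-rank submodule, in terms of Smith coefficients. -/
theorem length_quotient_eq_ord_det (b : Basis ι R M) (N : Submodule R M) (bN : Basis ι R N) :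
    Module.length R (M ⧸ N) = Ring.ord R (Matrix.det (b.toMatrix (fun i => (bN i : M)))) := by
  have h : Module.finrank R N = Module.finrank R M := by
    rw [Module.finrank_eq_card_basis bN, Module.finrank_eq_card_basis b]
  set b' := Submodule.smithNormalFormTopBasis b h with hb'
  set ab := Submodule.smithNormalFormBotBasis b h with hab
  set a := Submodule.smithNormalFormCoeffs b h with ha
  have hdef : ∀ i, (ab i : M) = a i • b' i := Submodule.smithNormalFormBotBasis_def b h
  have hane : ∀ i, a i ≠ 0 := Submodule.smithNormalFormCoeffs_ne_zero b h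
  -- length
  have hlen : Module.length R (M ⧸ N) = ∑ i, Ring.ord R (a i) := by
    rw [(N.quotientEquivPiSpan b h).length_eq, Module.length_pi_of_fintype]
    rfl
  rw [hlen, ← ord_prod Finset.univ a hane]
  apply Ring.ord_eq_of_associated
  -- determinant computation
  have h1 : b'.toMatrix (fun i => (ab i : M)) = Matrix.diagonal a := by
    ext i j
    rw [Basis.toMatrix_apply, hdef j, map_smul, Finsupp.smul_apply, Basis.repr_self,
      Matrix.diagonal_apply]
    by_cases hij : i = j
    · subst hij; simp
    · rw [Finsupp.single_eq_of_ne (by exact fun h => hij h), if_neg hij, smul_zero]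
  have h2 : b'.toMatrix (fun i => (bN i : M)) =
      b'.toMatrix (fun i => (ab i : M)) * ab.toMatrix bN := by
    have e1 : LinearMap.toMatrix ab b' N.subtype = b'.toMatrix (fun i => (ab i : M)) := by
      ext i j; rw [LinearMap.toMatrix_apply, Basis.toMatrix_apply]; rfl
    have e2 : LinearMap.toMatrix bN b' N.subtype = b'.toMatrix (fun i => (bN i : M)) := by
      ext i j; rw [LinearMap.toMatrix_apply, Basis.toMatrix_apply]; rfl
    rw [← e1, ← e2, linearMap_toMatrix_mul_basis_toMatrix]
  have h3 : b.toMatrix (fun i => (bN i : M)) =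
      b.toMatrix b' * (Matrix.diagonal a * ab.toMatrix bN) := by
    rw [← h1, ← h2, Basis.toMatrix_mul_toMatrix]
  rw [h3, Matrix.det_mul, Matrix.det_mul, Matrix.det_diagonal]
  have u1 : IsUnit (b.toMatrix b').det := by
    rw [← Basis.det_apply]; exact b.isUnit_det b'
  have u2 : IsUnit (ab.toMatrix bN).det := by
    rw [← Basis.det_apply]; exact ab.isUnit_det bN
  obtain ⟨v1, hv1⟩ := u1
  obtain ⟨v2, hv2⟩ := u2
  refine ⟨v1 * v2, ?_⟩
  rw [← hv1, ← hv2, Units.val_mul]
  ring

end Length

section Trace

variable {R : Type*} [CommRing R] [IsDomain R]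
variable {St : Type*} [CommRing St] [Algebra R St]
variable {ι : Type*} [Fintype ι] [DecidableEq ι]

/-- the change of basis matrix of a basis of a subalgebra has nonzero determinant. -/
theorem det_toMatrix_ne_zero (bt : Basis ι R St) (S : Subalgebra R St) (bS : Basis ι R S) :
    Matrix.det (bt.toMatrix (fun i => (bS i : St))) ≠ 0 := by
  intro h
  obtain ⟨v, hv, hPv⟩ := (Matrix.exists_mulVec_eq_zero_iff
    (M := bt.toMatrix (fun i => (bS i : St)))).2 h
  apply hv
  have h1 : ∑ j, v j • (bS j : St) = 0 := by
    apply bt.repr.injective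
    ext i
    rw [map_sum, map_zero, Finsupp.coe_finsetSum, Finset.sum_apply, Finsupp.zero_apply]
    have := congrFun hPv i
    rw [Matrix.mulVec, dotProduct] at this
    rw [Pi.zero_apply] at this
    rw [← this]
    refine Finset.sum_congr rfl fun j _ => ?_
    rw [map_smul, Finsupp.smul_apply, Basis.toMatrix_apply, smul_eq_mul, mul_comm]
  have h2 : ∑ j, v j • bS j = 0 := by
    apply Subtype.ext
    rw [ZeroMemClass.coe_zero, ← h1]
    simp
  have h3 := Fintype.linearIndependent_iff.1 bS.linearIndependent v h2
  funext i
  exact h3 i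

/-- trace of an element of a full-rank subalgebra computed in the subalgebra or in the big algebra -/
theorem trace_subalgebra_eq (bt : Basis ι R St) (S : Subalgebra R St) (bS : Basis ι R S) (s : S) :
    Algebra.trace R S s = Algebra.trace R St (s : St) := by
  rw [Algebra.trace_eq_matrix_trace bS, Algebra.trace_eq_matrix_trace bt]
  set P := bt.toMatrix (fun i => (bS i : St)) with hP
  have hdet := det_toMatrix_ne_zero bt S bS
  have hPe : LinearMap.toMatrix bS bt S.val.toLinearMap = P := by
    ext i j; rw [LinearMap.toMatrix_apply, hP, Basis.toMatrix_apply]; rfl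
  have hcomm : Algebra.leftMulMatrix bt (s : St) * P = P * Algebra.leftMulMatrix bS s := by
    rw [Algebra.leftMulMatrix_apply, Algebra.leftMulMatrix_apply, ← hPe,
      ← LinearMap.toMatrix_comp, ← LinearMap.toMatrix_comp]
    congr 1
  have key : P.det • Matrix.trace (Algebra.leftMulMatrix bS s) =
      P.det • Matrix.trace (Algebra.leftMulMatrix bt (s : St)) := by
    rw [← Matrix.trace_smul, ← Matrix.trace_smul]
    have e1 : P.det • Algebra.leftMulMatrix bS s = P.adjugate * (P * Algebra.leftMulMatrix bS s) := by
      rw [← Matrix.mul_assoc, Matrix.adjugate_mul, Matrix.smul_mul, Matrix.one_mul]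
    have e2 : P.det • Algebra.leftMulMatrix bt (s : St) =
        (Algebra.leftMulMatrix bt (s : St) * P) * P.adjugate := by
      rw [Matrix.mul_assoc, Matrix.mul_adjugate, Matrix.mul_smul, Matrix.mul_one]
    rw [e1, e2, ← hcomm, Matrix.trace_mul_comm]
  exact mul_left_cancel₀ hdet (by simpa [smul_eq_mul] using key)

/-- discriminant of a full-rank subalgebra -/
theorem discr_subalgebra_eq (bt : Basis ι R St) (S : Subalgebra R St) (bS : Basis ι R S) :
    Algebra.discr R (⇑bS) =
      Matrix.det (bt.toMatrix (fun i => (bS i : St))) ^ 2 * Algebra.discr R (⇑bt) := by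
  set P := bt.toMatrix (fun i => (bS i : St)) with hP
  rw [← Algebra.discr_of_matrix_vecMul]
  have h1 : Matrix.vecMul (⇑bt) (P.map (algebraMap R St)) = fun i => (bS i : St) := by
    funext j
    rw [Matrix.vecMul, dotProduct]
    have := bt.sum_toMatrix_smul_self (fun i => (bS i : St)) j
    rw [← this]
    refine Finset.sum_congr rfl fun i _ => ?_
    rw [Matrix.map_apply, Algebra.smul_def, mul_comm]
  rw [h1, Algebra.discr_def, Algebra.discr_def]
  congr 1
  ext i j
  rw [Algebra.traceMatrix_apply, Algebra.traceMatrix_apply, Algebra.traceForm_apply,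
    Algebra.traceForm_apply, trace_subalgebra_eq bt S bS]
  rfl

end Trace

end Groth.Agent.Lib.Helper71.LengthDet
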