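import Mathlib.RingTheory.Flat.FaithfullyFlat.Algebra
import Mathlib.RingTheory.Ideal.GoingUp
import Mathlib.LinearAlgebra.TensorProduct.Tower
import Mathlib.Tactic

/-! Faithfully flat algebra maps are universally injective (helper71). -/

set_option autoImplicit false
universe u

namespace Groth.Agent.Lib.Helper71

open TensorProduct

/-- A flat, integral, injective algebra map is faithfully flat. -/
theorem faithfullyFlat_of_integral_injective (B C : Type u) [CommRing B] [CommRing C] [Algebra B C]
    [Module.Flat B C] [Algebra.IsIntegral B C] (hinj : Function.Injective (algebraMap B C)) :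
    Module.FaithfullyFlat B C := by
  refine Module.FaithfullyFlat.of_comap_surjective fun P => ?_
  obtain ⟨Q, _, hQ1, hQ2⟩ := Ideal.exists_ideal_over_prime_of_isIntegral P.asIdeal (⊥ : Ideal C)
    (by simp [← RingHom.ker_eq_comap_bot, (RingHom.injective_iff_ker_eq_bot _).1 hinj])
  exact ⟨⟨Q, hQ1⟩, PrimeSpectrum.ext hQ2⟩

/-- If `C` is a faithfully flat `B`-algebra, then `B ⊗[R] N → C ⊗[R] N` is injective for every
`R`-module `N`. -/
theorem rTensor_injective_of_faithfullyFlat (R B C : Type u) [CommRing R] [CommRing B] [CommRing C]
    [Algebra R B] [Algebra R C] [Algebra B C] [IsScalarTower R B C] [Module.FaithfullyFlat B C]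
    (N : Type u) [AddCommGroup N] [Module R N] :
    Function.Injective ((IsScalarTower.toAlgHom R B C).toLinearMap.rTensor N) := by
  have h1 : Function.Injective (TensorProduct.mk B C (B ⊗[R] N) 1) :=
    Module.FaithfullyFlat.tensorProduct_mk_injective (B ⊗[R] N)
  have h2 : ∀ z : B ⊗[R] N, (IsScalarTower.toAlgHom R B C).toLinearMap.rTensor N z =
      TensorProduct.AlgebraTensorModule.cancelBaseChange R B C C N
        (TensorProduct.mk B C (B ⊗[R] N) 1 z) := by
    intro z
    induction z using TensorProduct.induction_on with
    | zero => simp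
    | tmul b n => simp [Algebra.smul_def]
    | add x y hx hy => rw [map_add, hx, hy, map_add, map_add]
  intro z z' hzz
  rw [h2, h2] at hzz
  exact h1 ((TensorProduct.AlgebraTensorModule.cancelBaseChange R B C C N).injective hzz)

end Groth.Agent.Lib.Helper71
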