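import Mathlib

/-!
# Polynomials over separably closed fields / integrally closed domains with separably closed
fraction field (helper71)

* `exists_root_of_derivative_ne_zero` : over a separably closed field, a polynomial with nonzero
  derivative has a root.
* `exists_root_of_monic_of_derivative_ne_zero` : `B` integrally closed domain with separably closed
  fraction field `K`; a monic polynomial over `B` with nonzero derivative has a root in `B`.
-/

set_option autoImplicit false

namespace Groth.Agent.Lib.Helper71

open Polynomial

theorem exists_root_of_derivative_ne_zero {K : Type*} [Field K] [IsSepClosed K] :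
    ∀ (n : ℕ) (r : K[X]), r.natDegree = n → derivative r ≠ 0 → ∃ x, r.IsRoot x := by
  intro n
  induction n using Nat.strong_induction_on with
  | _ n ih =>
    intro r hn hr
    have hr0 : r ≠ 0 := fun h => hr (by simp [h])
    have hunit : ¬ IsUnit r := by
      intro h
      obtain ⟨c, _, rfl⟩ := Polynomial.isUnit_iff.1 h
      exact hr derivative_C
    by_cases hirr : Irreducible r
    · have hsep : r.Separable := (Polynomial.separable_iff_derivative_ne_zero hirr).2 hr
      refine IsSepClosed.exists_root r ?_ hsep
      intro hdeg
      exact hunit (Polynomial.isUnit_iff_degree_eq_zero.2 hdeg)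
    · rw [irreducible_iff] at hirr
      push_neg at hirr
      obtain ⟨a, b, hab, ha, hb⟩ := hirr hunit
      have ha0 : a ≠ 0 := fun h => hr0 (by rw [hab, h, zero_mul])
      have hb0 : b ≠ 0 := fun h => hr0 (by rw [hab, h, mul_zero])
      have hda : 0 < a.natDegree := by
        rw [Polynomial.natDegree_pos_iff_degree_pos]
        exact Polynomial.degree_pos_of_ne_zero_of_nonunit ha0 ha
      have hdb : 0 < b.natDegree := by
        rw [Polynomial.natDegree_pos_iff_degree_pos]
        exact Polynomial.degree_pos_of_ne_zero_of_nonunit hb0 hb
      have hdeg : a.natDegree + b.natDegree = n := by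
        rw [← hn, hab, Polynomial.natDegree_mul ha0 hb0]
      have hder : derivative a ≠ 0 ∨ derivative b ≠ 0 := by
        by_contra hcon
        push_neg at hcon
        apply hr
        rw [hab, derivative_mul, hcon.1, hcon.2, zero_mul, mul_zero, add_zero]
      rcases hder with h | h
      · obtain ⟨x, hx⟩ := ih a.natDegree (by omega) a rfl h
        exact ⟨x, by rw [hab]; exact Polynomial.root_mul_right_of_isRoot b hx⟩
      · obtain ⟨x, hx⟩ := ih b.natDegree (by omega) b rfl h
        exact ⟨x, by rw [hab]; exact Polynomial.root_mul_left_of_isRoot a hx⟩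

theorem exists_root_of_monic_of_derivative_ne_zero (B : Type*) [CommRing B] [IsDomain B]
    [IsIntegrallyClosed B] (K : Type*) [Field K] [Algebra B K] [IsFractionRing B K]
    [IsSepClosed K] (g : B[X]) (hg : g.Monic) (hder : derivative g ≠ 0) :
    ∃ b : B, eval b g = 0 := by
  have hinj : Function.Injective (algebraMap B K) := IsFractionRing.injective B K
  have hder' : derivative (g.map (algebraMap B K)) ≠ 0 := by
    rw [Polynomial.derivative_map]
    exact (Polynomial.map_ne_zero_iff hinj).2 hder
  obtain ⟨x, hx⟩ := exists_root_of_derivative_ne_zero _ _ rfl hder'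
  have hint : IsIntegral B x := ⟨g, hg, by rw [← Polynomial.eval_map]; exact hx⟩
  obtain ⟨b, rfl⟩ := (IsIntegrallyClosed.isIntegral_iff (R := B) (K := K)).1 hint
  refine ⟨b, hinj ?_⟩
  rw [map_zero, ← Polynomial.eval₂_at_apply, ← Polynomial.eval_map]
  exact hx

end Groth.Agent.Lib.Helper71
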